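import Mathlib

set_option autoImplicit false

/-! The embedding `GL_m(F) → Sp_{2m}(F)`, `A ↦ diag(A, A⁻ᵀ)`. -/

namespace Cfsg.Agent.Lib.Helper5.SpAdj

open Matrix

variable {F : Type*} [Field F] (m : ℕ)

theorem block_mem_of_mul_eq_one (X Y : Matrix (Fin m) (Fin m) F) (h1 : X * Y = 1) :
    Matrix.fromBlocks X 0 0 Yᵀ ∈ symplecticGroup (Fin m) F := by
  rw [SymplecticGroup.mem_iff]
  have h2 : Yᵀ * Xᵀ = 1 := by
    rw [← Matrix.transpose_mul, h1, Matrix.transpose_one]
  rw [Matrix.J, Matrix.fromBlocks_multiply, Matrix.fromBlocks_transpose,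
    Matrix.fromBlocks_multiply]
  simp only [Matrix.transpose_zero, Matrix.transpose_transpose, mul_zero, zero_mul, add_zero,
    zero_add, mul_one, mul_neg, neg_mul, Matrix.transpose_neg, h1, h2, neg_zero]

theorem glBlock_mem (A : GL (Fin m) F) :
    Matrix.fromBlocks (A : Matrix (Fin m) (Fin m) F) 0 0
      ((↑A⁻¹ : Matrix (Fin m) (Fin m) F))ᵀ ∈ symplecticGroup (Fin m) F := by
  apply block_mem_of_mul_eq_one
  rw [← Units.val_mul, mul_inv_cancel, Units.val_one]

/-- the embedding as a monoid homomorphism -/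
noncomputable def glToSp : GL (Fin m) F →* symplecticGroup (Fin m) F where
  toFun A := ⟨_, glBlock_mem m A⟩
  map_one' := by
    apply Subtype.ext
    show Matrix.fromBlocks ((1 : GL (Fin m) F) : Matrix (Fin m) (Fin m) F) 0 0
      ((↑(1 : GL (Fin m) F)⁻¹ : Matrix (Fin m) (Fin m) F))ᵀ = 1
    rw [inv_one, Units.val_one, Matrix.transpose_one, Matrix.fromBlocks_one]
  map_mul' A B := by
    apply Subtype.ext
    show Matrix.fromBlocks ((A * B : GL (Fin m) F) : Matrix (Fin m) (Fin m) F) 0 0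
      ((↑(A * B)⁻¹ : Matrix (Fin m) (Fin m) F))ᵀ =
      Matrix.fromBlocks (A : Matrix (Fin m) (Fin m) F) 0 0
        ((↑A⁻¹ : Matrix (Fin m) (Fin m) F))ᵀ *
      Matrix.fromBlocks (B : Matrix (Fin m) (Fin m) F) 0 0
        ((↑B⁻¹ : Matrix (Fin m) (Fin m) F))ᵀ
    rw [Matrix.fromBlocks_multiply, _root_.mul_inv_rev, Units.val_mul, Units.val_mul,
      Matrix.transpose_mul]
    simp only [mul_zero, zero_mul, add_zero, zero_add]

theorem glToSp_injective : Function.Injective (glToSp (F := F) m) := by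
  intro A B h
  have h1 := congrArg Subtype.val h
  have h2 : Matrix.fromBlocks (A : Matrix (Fin m) (Fin m) F) 0 0
      ((↑A⁻¹ : Matrix (Fin m) (Fin m) F))ᵀ =
      Matrix.fromBlocks (B : Matrix (Fin m) (Fin m) F) 0 0
        ((↑B⁻¹ : Matrix (Fin m) (Fin m) F))ᵀ := h1
  rw [Matrix.fromBlocks_inj] at h2
  exact Units.ext h2.1

theorem exists_sp_orderOf_of_gl (A : GL (Fin m) F) :
    ∃ S : symplecticGroup (Fin m) F, orderOf S = orderOf A :=
  ⟨glToSp m A, orderOf_injective (glToSp m) (glToSp_injective m) A⟩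

end Cfsg.Agent.Lib.Helper5.SpAdj
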