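import Mathlib
import Cfsg.Agent.Lib.Helper5.AltForm
import Cfsg.Agent.Lib.Helper5.SpecSL.ExistK1

set_option autoImplicit false

/-! The cyclic torus of order `q^m + 1` in `Sp_{2m}(q)`: the alternating trace form
`(x, y) ↦ Tr(α x y^(q^m))` on the extension of degree `2m`. -/

namespace Cfsg.Agent.Lib.Helper5.SpAdj

open Matrix Module

variable {F : Type*} [Field F] [Fintype F]
variable (L : Type*) [Field L] [Algebra F L] [Fintype L] (m : ℕ)

/-- the automorphism `x ↦ x^(q^m)` -/
noncomputable def sig : L →ₐ[F] L := (FiniteField.frobeniusAlgHom F L) ^ m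

omit [Fintype L] in
theorem sig_apply (x : L) : sig (F := F) L m x = x ^ (Fintype.card F ^ m) := by
  unfold sig
  rw [AlgHom.coe_pow, FiniteField.coe_frobeniusAlgHom, pow_iterate]

variable (hL : Module.finrank F L = 2 * m)

include hL in
theorem card_L : Fintype.card L = Fintype.card F ^ (2 * m) := by
  have h := Module.card_eq_pow_finrank (K := F) (V := L)
  rw [hL] at h
  exact h

include hL in
theorem sig_sig (x : L) : sig (F := F) L m (sig (F := F) L m x) = x := by
  rw [sig_apply, sig_apply, ← pow_mul, ← pow_add, ← two_mul, ← card_L L m hL]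
  exact FiniteField.pow_card x

include hL in
theorem trace_eq_zero (z : L) (hz : z + sig (F := F) L m z = 0) : Algebra.trace F L z = 0 := by
  apply (algebraMap F L).injective
  rw [map_zero, FiniteField.algebraMap_trace_eq_sum_pow, hL, two_mul, Finset.sum_range_add,
    ← Finset.sum_add_distrib]
  apply Finset.sum_eq_zero
  intro i _
  rw [Nat.card_eq_fintype_card]
  have h1 : z ^ (Fintype.card F ^ (m + i)) = (sig (F := F) L m z) ^ (Fintype.card F ^ i) := by
    rw [sig_apply, ← pow_mul, ← pow_add]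
  rw [h1, ← sig_apply L i z, ← sig_apply L i (sig (F := F) L m z), ← map_add, hz, map_zero]

/-- the form `(x, y) ↦ Tr(α x σ(y))` -/
noncomputable def torusForm (α : L) : LinearMap.BilinForm F L :=
  (Algebra.traceForm F L).compl₁₂ (LinearMap.mulLeft F α) (sig (F := F) L m).toLinearMap

omit [Fintype L] in
theorem torusForm_apply (α x y : L) :
    torusForm (F := F) L m α x y = Algebra.trace F L (α * x * sig (F := F) L m y) := by
  unfold torusForm
  rw [LinearMap.compl₁₂_apply, Algebra.traceForm_apply]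
  rfl

include hL in
theorem torusForm_isAlt (α : L) (hα : sig (F := F) L m α = -α) :
    (torusForm (F := F) L m α).IsAlt := by
  intro x
  rw [torusForm_apply]
  apply trace_eq_zero L m hL
  rw [map_mul, map_mul, sig_sig L m hL, hα]
  ring

include hL in
theorem torusForm_ker (α : L) (hα0 : α ≠ 0) :
    LinearMap.ker (torusForm (F := F) L m α) = ⊥ := by
  rw [LinearMap.ker_eq_bot']
  intro x hx
  have h1 : ∀ w : L, Algebra.traceForm F L (α * x) w = 0 := by
    intro w
    have h2 := LinearMap.congr_fun hx (sig (F := F) L m w)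
    rw [torusForm_apply, sig_sig L m hL, LinearMap.zero_apply] at h2
    rw [Algebra.traceForm_apply]
    exact h2
  have h3 := (_root_.traceForm_nondegenerate F L).1 (α * x) h1
  rcases mul_eq_zero.mp h3 with h | h
  · exact absurd h hα0
  · exact h

omit [Fintype L] in
theorem torusForm_invariant (α u : L) (hu : u * sig (F := F) L m u = 1) (x y : L) :
    torusForm (F := F) L m α (u * x) (u * y) = torusForm (F := F) L m α x y := by
  rw [torusForm_apply, torusForm_apply, map_mul (sig (F := F) L m) u y]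
  congr 1
  calc α * (u * x) * (sig (F := F) L m u * sig (F := F) L m y)
      = (u * sig (F := F) L m u) * (α * x * sig (F := F) L m y) := by ring
    _ = α * x * sig (F := F) L m y := by rw [hu, one_mul]

include hL in
theorem exists_alpha (hm : 1 ≤ m) : ∃ α : L, α ≠ 0 ∧ sig (F := F) L m α = -α := by
  have hq : 2 ≤ Fintype.card F := Fintype.one_lt_card
  obtain ⟨b, hb0, hb⟩ := Cfsg.Agent.Lib.Helper5.SpecSL.exists_orderOf_eq (F := L)
    (Fintype.card L - 1) dvd_rfl
  have hne : sig (F := F) L m b ≠ b := by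
    intro h
    rw [sig_apply] at h
    have hqm : 2 ≤ Fintype.card F ^ m := by
      calc 2 ≤ Fintype.card F := hq
        _ = Fintype.card F ^ 1 := (pow_one _).symm
        _ ≤ Fintype.card F ^ m := Nat.pow_le_pow_right (by omega) hm
    have h1 : b ^ (Fintype.card F ^ m - 1) = 1 := by
      have h2 : b * b ^ (Fintype.card F ^ m - 1) = b * 1 := by
        rw [← pow_succ', mul_one, Nat.sub_add_cancel (by omega), h]
      exact mul_left_cancel₀ hb0 h2
    have h3 := orderOf_dvd_of_pow_eq_one h1
    rw [hb, card_L L m hL] at h3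
    have h4 := Nat.le_of_dvd (by omega) h3
    have h5 : Fintype.card F ^ (2 * m) = Fintype.card F ^ m * Fintype.card F ^ m := by
      rw [two_mul, pow_add]
    have h6 : Fintype.card F ^ m * 2 ≤ Fintype.card F ^ m * Fintype.card F ^ m :=
      Nat.mul_le_mul_left _ hqm
    omega
  refine ⟨b - sig (F := F) L m b, fun h => hne (sub_eq_zero.mp h).symm, ?_⟩
  rw [map_sub, sig_sig L m hL]
  ring

include hL in
/-- elements of every order dividing `q^m + 1` in `Sp_{2m}(q)` -/
theorem exists_sp_orderOf (hm : 1 ≤ m) (t : ℕ) (ht : t ∣ Fintype.card F ^ m + 1) :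
    ∃ A : symplecticGroup (Fin m) F, orderOf A = t := by
  classical
  have hq : 2 ≤ Fintype.card F := Fintype.one_lt_card
  obtain ⟨α, hα0, hα⟩ := exists_alpha L m hL hm
  obtain ⟨B, hBd⟩ : ∃ B : LinearMap.BilinForm F L, B = torusForm (F := F) L m α := ⟨_, rfl⟩
  have hA : B.IsAlt := by rw [hBd]; exact torusForm_isAlt L m hL α hα
  have hker : LinearMap.ker B = ⊥ := by rw [hBd]; exact torusForm_ker L m hL α hα0
  obtain ⟨m', k', b, h1, h2, h3, _, h5, h6⟩ :=
    Cfsg.Agent.Lib.Helper5.AltForm.exists_darboux_basis B hA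
  rw [hker, finrank_bot] at h6
  subst h6
  have hmm : m' = m := by rw [hL] at h5; omega
  subst hmm
  obtain ⟨b', hb'⟩ : ∃ b' : Module.Basis (Fin m' ⊕ Fin m') F L,
      b' = b.reindex (Equiv.sumEmpty (Fin m' ⊕ Fin m') (Fin 0)) := ⟨_, rfl⟩
  have hb'app : ∀ i, b' i = b (Sum.inl i) := by
    intro i
    rw [hb', Module.Basis.reindex_apply]
    rfl
  -- the Gram matrix
  have hG : LinearMap.BilinForm.toMatrix b' B = -Matrix.J (Fin m') F := by
    ext i j
    rw [LinearMap.BilinForm.toMatrix_apply, hb'app, hb'app]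
    rcases i with i | i <;> rcases j with j | j
    · rw [h2]; simp [Matrix.J]
    · rw [h1]; simp [Matrix.J, Matrix.one_apply]
    · have h7 : B (b (Sum.inl (Sum.inr i))) (b (Sum.inl (Sum.inl j))) =
          -B (b (Sum.inl (Sum.inl j))) (b (Sum.inl (Sum.inr i))) := (hA.neg_eq _ _).symm
      rw [h7, h1]; simp [Matrix.J, Matrix.one_apply, eq_comm]
    · rw [h3]; simp [Matrix.J]
  -- the element `u`
  have hdvd : t ∣ Fintype.card L - 1 := by
    rw [card_L L m' hL]
    have h7 : Fintype.card F ^ (2 * m') - 1 =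
        (Fintype.card F ^ m' + 1) * (Fintype.card F ^ m' - 1) := by
      have hpos : 1 ≤ Fintype.card F ^ m' := Nat.one_le_pow _ _ (by omega)
      obtain ⟨c, hc⟩ : ∃ c, Fintype.card F ^ m' = c + 1 := ⟨Fintype.card F ^ m' - 1, by omega⟩
      rw [two_mul, pow_add, hc]
      have : (c + 1) * (c + 1) - 1 = (c + 1 + 1) * (c + 1 - 1) := by
        rw [Nat.add_sub_cancel]
        have : (c + 1) * (c + 1) = (c + 1 + 1) * c + 1 := by ring
        omega
      exact this
    rw [h7]
    exact Dvd.dvd.mul_right ht _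
  obtain ⟨u, hu0, hu⟩ := Cfsg.Agent.Lib.Helper5.SpecSL.exists_orderOf_eq (F := L) t hdvd
  have hunorm : u * sig (F := F) L m' u = 1 := by
    rw [sig_apply, ← pow_succ']
    apply orderOf_dvd_iff_pow_eq_one.mp
    rw [hu]; exact ht
  -- the matrix of multiplication by `u`
  obtain ⟨Ψ, hΨ⟩ : ∃ Ψ : L →ₐ[F] Matrix (Fin m' ⊕ Fin m') (Fin m' ⊕ Fin m') F,
      Ψ = (LinearMap.toMatrixAlgEquiv b' : (L →ₗ[F] L) ≃ₐ[F] _).toAlgHom.comp
        (Algebra.lmul F L) := ⟨_, rfl⟩
  have hΨinj : Function.Injective Ψ := by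
    intro x y hxy
    rw [hΨ] at hxy
    have h7 : Algebra.lmul F L x = Algebra.lmul F L y :=
      (LinearMap.toMatrixAlgEquiv b' : (L →ₗ[F] L) ≃ₐ[F] _).injective hxy
    have h8 := LinearMap.congr_fun h7 1
    simpa using h8
  have hΨu : Ψ u = LinearMap.toMatrix b' b' (LinearMap.mulLeft F u) := by
    rw [hΨ]
    rfl
  have hinv : B.comp (LinearMap.mulLeft F u) (LinearMap.mulLeft F u) = B := by
    ext x y
    rw [LinearMap.BilinForm.comp_apply, LinearMap.mulLeft_apply, LinearMap.mulLeft_apply, hBd]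
    exact torusForm_invariant L m' α u hunorm x y
  have hmem : Ψ u ∈ symplecticGroup (Fin m') F := by
    rw [SymplecticGroup.mem_iff', hΨu]
    have h7 := LinearMap.BilinForm.toMatrix_comp b' b' B (LinearMap.mulLeft F u)
      (LinearMap.mulLeft F u)
    rw [hinv, hG] at h7
    have h8 : -Matrix.J (Fin m') F = -((LinearMap.toMatrix b' b' (LinearMap.mulLeft F u))ᵀ *
        Matrix.J (Fin m') F * LinearMap.toMatrix b' b' (LinearMap.mulLeft F u)) := by
      rw [h7]; simp
    exact (neg_injective h8).symm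
  refine ⟨⟨Ψ u, hmem⟩, ?_⟩
  rw [← hu, ← orderOf_injective (Ψ : L →* Matrix (Fin m' ⊕ Fin m') (Fin m' ⊕ Fin m') F) hΨinj u]
  apply orderOf_eq_orderOf_iff.mpr
  intro j
  constructor
  · intro h
    have := congrArg Subtype.val h
    exact this
  · intro h
    exact Subtype.ext h

end Cfsg.Agent.Lib.Helper5.SpAdj
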