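import Mathlib
import Cfsg.Agent.Lib.Helper5.SpAdj.Torus
import Cfsg.Agent.Lib.Helper5.SpAdj.GLEmbed
import Cfsg.Agent.Lib.Helper5.SpecSL.Singer
import Cfsg.Agent.Lib.Helper5.SympBlock
import Cfsg.Agent.Lib.Helper5.SympCard
import Cfsg.Agent.S0246

set_option autoImplicit false
open Cfsg

/-! Existence of elements of order `r s` in `PSp_{2n}(q)`. -/

namespace Cfsg.Agent.Lib.Helper5.SpAdj

open Matrix Cfsg.Agent.Lib.Helper5

variable {F : Type*} [Field F]

theorem blockDiag_pow2 (a b : ℕ) (M₁ : Matrix (Fin a ⊕ Fin a) (Fin a ⊕ Fin a) F)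
    (M₂ : Matrix (Fin b ⊕ Fin b) (Fin b ⊕ Fin b) F) (m : ℕ) :
    SympBlock.blockDiag a b M₁ M₂ ^ m = SympBlock.blockDiag a b (M₁ ^ m) (M₂ ^ m) := by
  induction m with
  | zero => rw [pow_zero, pow_zero, pow_zero, SympBlock.blockDiag_one]
  | succ m ih => rw [pow_succ, ih, pow_succ, pow_succ, SympBlock.blockDiag_mul]

/-- block-diagonal elements of coprime orders with odd product -/
theorem exists_order_mul (a b : ℕ) (hab : 1 ≤ a + b)
    (x : symplecticGroup (Fin a) F) (y : symplecticGroup (Fin b) F) (u v : ℕ)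
    (hx : orderOf x = u) (hy : orderOf y = v) (hcop : Nat.Coprime u v) (hodd : Odd (u * v)) :
    ∃ g : Cfsg.PSp (a + b) F, orderOf g = u * v := by
  obtain ⟨G, hG⟩ : ∃ G : ↥(symplecticGroup (Fin (a + b)) F),
      G.1 = SympBlock.blockDiag a b x.1 y.1 :=
    ⟨⟨_, SympBlock.blockDiag_mem a b x.2 y.2⟩, rfl⟩
  have hGpow : ∀ m : ℕ, G ^ m = 1 ↔ u * v ∣ m := by
    intro m
    have h1 : (G ^ m).1 = SympBlock.blockDiag a b ((x ^ m).1) ((y ^ m).1) := by
      have : (G ^ m).1 = G.1 ^ m := rfl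
      rw [this, hG, blockDiag_pow2]; rfl
    constructor
    · intro h
      rw [h] at h1
      have h2 : SympBlock.blockDiag a b ((x ^ m).1) ((y ^ m).1) =
          SympBlock.blockDiag a b 1 1 := by
        rw [← h1, SympBlock.blockDiag_one]; rfl
      obtain ⟨h3, h4⟩ := SympBlock.blockDiag_injective a b _ _ _ _ h2
      have hx' : x ^ m = 1 := Subtype.ext h3
      have hy' : y ^ m = 1 := Subtype.ext h4
      have h5 := orderOf_dvd_of_pow_eq_one hx'
      have h6 := orderOf_dvd_of_pow_eq_one hy'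
      rw [hx] at h5
      rw [hy] at h6
      exact hcop.mul_dvd_of_dvd_of_dvd h5 h6
    · intro h
      have hx' : x ^ m = 1 := by
        apply orderOf_dvd_iff_pow_eq_one.mp; rw [hx]; exact (Dvd.intro _ rfl).trans h
      have hy' : y ^ m = 1 := by
        apply orderOf_dvd_iff_pow_eq_one.mp; rw [hy]; exact (Dvd.intro_left _ rfl).trans h
      apply Subtype.ext
      rw [h1, hx', hy']
      exact SympBlock.blockDiag_one a b
  refine ⟨(G : Cfsg.PSp (a + b) F), ?_⟩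
  have hmkpow : ∀ m : ℕ, ((G ^ m : ↥(symplecticGroup (Fin (a + b)) F)) : Cfsg.PSp (a + b) F) =
      (G : Cfsg.PSp (a + b) F) ^ m := fun m => rfl
  apply Nat.dvd_antisymm
  · apply orderOf_dvd_of_pow_eq_one
    rw [← hmkpow, (hGpow (u * v)).mpr (dvd_refl _)]; rfl
  · obtain ⟨m, hm⟩ : ∃ m, m = orderOf (G : Cfsg.PSp (a + b) F) := ⟨_, rfl⟩
    rw [← hm]
    have h1 : ((G ^ m : ↥(symplecticGroup (Fin (a + b)) F)) : Cfsg.PSp (a + b) F) = 1 := by
      rw [hmkpow, hm]; exact pow_orderOf_eq_one _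
    rw [QuotientGroup.eq_one_iff, Cfsg.Agent.S0246.mem_center_iff (a + b) hab] at h1
    rcases h1 with h1 | h1
    · exact (hGpow m).mp (Subtype.ext h1)
    · have h2 : G ^ (2 * m) = 1 := by
        apply Subtype.ext
        have : (G ^ (2 * m)).1 = ((G ^ m).1) ^ 2 := by
          rw [mul_comm, pow_mul]; rfl
        rw [this, h1]
        simp
      have h3 := (hGpow (2 * m)).mp h2
      have hcop2 : Nat.Coprime (u * v) 2 := by
        rw [Nat.coprime_two_right]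
        exact hodd
      exact hcop2.dvd_of_dvd_mul_left h3

section arith

variable (r : ℕ) (hr : r.Prime) (q : ℕ) (hq0 : 0 < q) (hrq : ¬ r ∣ q)

include hr hq0 in
theorem dvd_pow_sub_one_iff (j : ℕ) :
    r ∣ q ^ j - 1 ↔ orderOf ((q : ℕ) : ZMod r) ∣ j := by
  have hfr : Fact r.Prime := ⟨hr⟩
  rw [orderOf_dvd_iff_pow_eq_one]
  have h1 : ((q : ℕ) : ZMod r) ^ j = 1 ↔ ((q ^ j : ℕ) : ZMod r) = ((1 : ℕ) : ZMod r) := by
    rw [Nat.cast_pow, Nat.cast_one]
  rw [h1, ZMod.natCast_eq_natCast_iff]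
  constructor
  · intro h
    exact ((Nat.modEq_iff_dvd' (Nat.one_le_pow _ _ hq0)).mpr h).symm
  · intro h
    exact (Nat.modEq_iff_dvd' (Nat.one_le_pow _ _ hq0)).mp h.symm

include hr hq0 in
theorem dvd_pow_add_one_of_order (k' : ℕ) (hk'pos : 0 < k')
    (hk : orderOf ((q : ℕ) : ZMod r) = 2 * k') : r ∣ q ^ k' + 1 := by
  have h1 : r ∣ q ^ (2 * k') - 1 := (dvd_pow_sub_one_iff r hr q hq0 _).mpr (by rw [hk])
  have h2 : q ^ (2 * k') - 1 = (q ^ k' - 1) * (q ^ k' + 1) := by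
    have hpos : 1 ≤ q ^ k' := Nat.one_le_pow _ _ hq0
    obtain ⟨c, hc⟩ : ∃ c, q ^ k' = c + 1 := ⟨q ^ k' - 1, by omega⟩
    rw [two_mul, pow_add, hc, Nat.add_sub_cancel]
    have : (c + 1) * (c + 1) = c * (c + 1 + 1) + 1 := by ring
    omega
  rw [h2] at h1
  rcases (Nat.Prime.dvd_mul hr).mp h1 with h | h
  · exfalso
    have h3 := (dvd_pow_sub_one_iff r hr q hq0 _).mp h
    rw [hk] at h3
    have := Nat.le_of_dvd hk'pos h3
    omega
  · exact h

end arith

variable [Fintype F]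

/-- `r` divides the order of `Sp_{2m}(q)` as soon as `η(k) ≤ m` -/
theorem dvd_card_sp_of_le (p : ℕ) [Fact p.Prime] [CharP F p]
    (r : ℕ) (hr : r.Prime) (hrp : r ≠ p) (k ηk : ℕ)
    (hk : k = orderOf ((Fintype.card F : ℕ) : ZMod r))
    (hηk : (Odd k ∧ ηk = k) ∨ (Even k ∧ 2 * ηk = k)) (hkpos : 0 < k) (m : ℕ) (hle : ηk ≤ m) :
    r ∣ Nat.card (symplecticGroup (Fin m) F) := by
  have hq0 : 0 < Fintype.card F := Fintype.card_pos
  have hη1 : 1 ≤ ηk := by
    rcases hηk with ⟨_, h⟩ | ⟨_, h⟩ <;> omega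
  have hdvd : r ∣ Fintype.card F ^ (2 * ηk) - 1 := by
    rw [dvd_pow_sub_one_iff r hr _ hq0, ← hk]
    rcases hηk with ⟨_, h⟩ | ⟨_, h⟩
    · rw [h]; exact Dvd.intro_left 2 rfl
    · rw [h]
  rw [SympCard.card_symplecticGroup]
  apply Dvd.dvd.mul_left
  have hmem : ηk - 1 ∈ Finset.range m := Finset.mem_range.mpr (by omega)
  apply Dvd.dvd.trans _ (Finset.dvd_prod_of_mem _ hmem)
  have h2 : 2 * (ηk - 1 + 1) = 2 * ηk := by omega
  rw [h2]
  exact hdvd

/-- a prime `s ≠ p` dividing the order of `Sp_{2n}(q)` has `η(l) ≤ n` -/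
theorem eta_le_of_dvd (p : ℕ) [Fact p.Prime] [CharP F p]
    (s : ℕ) (hs : s.Prime) (hsp : s ≠ p) (l ηl : ℕ)
    (hl : l = orderOf ((Fintype.card F : ℕ) : ZMod s))
    (hηl : (Odd l ∧ ηl = l) ∨ (Even l ∧ 2 * ηl = l)) (n : ℕ)
    (hdvd : s ∣ Nat.card (symplecticGroup (Fin n) F)) : ηl ≤ n := by
  have hpp : p.Prime := Fact.out
  have hq0 : 0 < Fintype.card F := Fintype.card_pos
  obtain ⟨f, _, hq⟩ := FiniteField.card F p
  have hsq : ¬ s ∣ Fintype.card F := by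
    rw [hq]
    intro h
    have h1 := hs.dvd_of_dvd_pow h
    exact hsp ((Nat.prime_dvd_prime_iff_eq hs hpp).mp h1)
  rw [SympCard.card_symplecticGroup] at hdvd
  rcases (Nat.Prime.dvd_mul hs).mp hdvd with h | h
  · exact absurd (hs.dvd_of_dvd_pow h) hsq
  · rw [Prime.dvd_finsetProd_iff (Nat.Prime.prime hs)] at h
    obtain ⟨i, hi, hdi⟩ := h
    rw [Finset.mem_range] at hi
    rw [dvd_pow_sub_one_iff s hs _ hq0, ← hl] at hdi
    rcases hηl with ⟨hodd, h⟩ | ⟨_, h⟩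
    · have hcop : Nat.Coprime l 2 := Nat.coprime_two_right.mpr hodd
      have h3 : l ∣ i + 1 := hcop.dvd_of_dvd_mul_left hdi
      have := Nat.le_of_dvd (by omega) h3
      omega
    · rw [← h] at hdi
      have h3 : ηl ∣ i + 1 := Nat.dvd_of_mul_dvd_mul_left (by norm_num) hdi
      have := Nat.le_of_dvd (by omega) h3
      omega

end Cfsg.Agent.Lib.Helper5.SpAdj
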