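import Mathlib

set_option autoImplicit false

/-! Eigenspace dimensions of matrices over a general finite index type: invariance under
semilinear maps (Frobenius) and the symplectic duality `l ↦ l⁻¹`. -/

namespace Cfsg.Agent.Lib.Helper5.SpAdj

open Module Module.End Matrix

variable {K : Type*} [Field K] {ι : Type*} [Fintype ι] [DecidableEq ι]

theorem finrank_ker_add_rank_gen (A : Matrix ι ι K) :
    finrank K (LinearMap.ker (Matrix.toLin' A)) + A.rank = Fintype.card ι := by
  have h := LinearMap.finrank_range_add_finrank_ker (Matrix.toLin' A)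
  rw [Module.finrank_fintype_fun_eq_card] at h
  have h2 : A.rank = finrank K (LinearMap.range (Matrix.toLin' A)) := rfl
  omega

theorem eigenspace_toLin_gen (A : Matrix ι ι K) (l : K) :
    eigenspace (Matrix.toLin' A) l = LinearMap.ker (Matrix.toLin' (A - l • 1)) := by
  rw [eigenspace_def, map_sub, map_smul, Matrix.toLin'_one]
  rfl

theorem finrank_eigenspace_transpose_gen (A : Matrix ι ι K) (l : K) :
    finrank K (eigenspace (Matrix.toLin' Aᵀ) l) = finrank K (eigenspace (Matrix.toLin' A) l) := by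
  rw [eigenspace_toLin_gen, eigenspace_toLin_gen]
  have h1 := finrank_ker_add_rank_gen (Aᵀ - l • 1)
  have h2 := finrank_ker_add_rank_gen (A - l • 1)
  have h3 : (Aᵀ - l • (1 : Matrix ι ι K)) = (A - l • 1)ᵀ := by
    rw [Matrix.transpose_sub, Matrix.transpose_smul, Matrix.transpose_one]
  have h4 : (Aᵀ - l • (1 : Matrix ι ι K)).rank = (A - l • 1).rank := by
    rw [h3, Matrix.rank_transpose]
  omega

theorem mem_eigenspace_toLin_iff (A : Matrix ι ι K) (l : K) (v : ι → K) :
    v ∈ eigenspace (Matrix.toLin' A) l ↔ A *ᵥ v = l • v := by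
  rw [mem_eigenspace_iff, Matrix.toLin'_apply]

theorem finrank_ker_le_of_semilinear_gen (ψ : K →+* K) (hψ : Function.Surjective ψ)
    (M N : Matrix ι ι K)
    (h : ∀ v : ι → K, M *ᵥ v = 0 → N *ᵥ (fun i => ψ (v i)) = 0) :
    finrank K (LinearMap.ker (Matrix.toLin' M)) ≤ finrank K (LinearMap.ker (Matrix.toLin' N)) := by
  classical
  set d := finrank K (LinearMap.ker (Matrix.toLin' M)) with hd
  let b : Basis (Fin d) K (LinearMap.ker (Matrix.toLin' M)) := Module.finBasis K _
  have hbm : ∀ i, M *ᵥ ((b i : ι → K)) = 0 := by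
    intro i
    have := (b i).2
    rw [LinearMap.mem_ker, Matrix.toLin'_apply] at this
    exact this
  let w : Fin d → ↥(LinearMap.ker (Matrix.toLin' N)) := fun i =>
    ⟨fun j => ψ ((b i : ι → K) j), by
      rw [LinearMap.mem_ker, Matrix.toLin'_apply]
      exact h _ (hbm i)⟩
  have hli : LinearIndependent K w := by
    rw [Fintype.linearIndependent_iff]
    intro c hc
    choose e he using fun i => hψ (c i)
    have h1 : ∀ j : ι, ψ ((∑ i, e i • (b i : ι → K)) j) = 0 := by
      intro j
      have h2 := congrArg (fun x : ↥(LinearMap.ker (Matrix.toLin' N)) => (x : ι → K) j) hc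
      simp only [w, Submodule.coe_sum, Submodule.coe_smul, Finset.sum_apply, Pi.smul_apply,
        smul_eq_mul, Submodule.coe_zero, Pi.zero_apply] at h2
      rw [Finset.sum_apply, map_sum]
      rw [← h2]
      apply Finset.sum_congr rfl
      intro i _
      rw [Pi.smul_apply, smul_eq_mul, map_mul, he]
    have h3 : ∑ i, e i • (b i : ι → K) = 0 := by
      ext j
      exact (map_eq_zero ψ).mp (h1 j)
    have h4 : ∑ i, e i • b i = 0 := by
      apply Subtype.ext
      rw [Submodule.coe_sum]
      simpa using h3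
    have h5 := (Fintype.linearIndependent_iff.mp b.linearIndependent) e h4
    intro i
    rw [← he i, h5 i, map_zero]
  have := hli.fintype_card_le_finrank
  simpa using this

/-- Frobenius: for a matrix fixed by `φ`, the eigenspaces at `l` and `φ l` are related. -/
theorem finrank_eigenspace_le_map (φ : K →+* K) (hφ : Function.Surjective φ)
    (A : Matrix ι ι K) (hA : A.map φ = A) (l : K) :
    finrank K (eigenspace (Matrix.toLin' A) l) ≤
      finrank K (eigenspace (Matrix.toLin' A) (φ l)) := by
  rw [eigenspace_toLin_gen, eigenspace_toLin_gen]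
  apply finrank_ker_le_of_semilinear_gen φ hφ
  intro v hv
  have hAv : A *ᵥ v = l • v := by
    rw [Matrix.sub_mulVec, Matrix.smul_mulVec, Matrix.one_mulVec, sub_eq_zero] at hv
    exact hv
  have h1 : A *ᵥ (fun i => φ (v i)) = φ l • (fun i => φ (v i)) := by
    ext i
    have h2 := RingHom.map_mulVec φ A v i
    rw [hAv, Pi.smul_apply, smul_eq_mul, map_mul, hA] at h2
    exact h2.symm
  rw [Matrix.sub_mulVec, Matrix.smul_mulVec, Matrix.one_mulVec, h1, sub_self]

/-- symplectic duality: `Aᵀ J A = J` with `J` invertible relates eigenspaces at `l`, `l⁻¹`. -/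
theorem finrank_eigenspace_le_inv (A J : Matrix ι ι K) (hJ : IsUnit J.det)
    (hA : Aᵀ * J * A = J) (l : K) (hl : l ≠ 0) :
    finrank K (eigenspace (Matrix.toLin' A) l) ≤
      finrank K (eigenspace (Matrix.toLin' A) l⁻¹) := by
  rw [← finrank_eigenspace_transpose_gen A l⁻¹]
  have hmaps : ∀ x ∈ eigenspace (Matrix.toLin' A) l,
      Matrix.toLin' J x ∈ eigenspace (Matrix.toLin' Aᵀ) l⁻¹ := by
    intro x hx
    rw [mem_eigenspace_toLin_iff] at hx
    rw [mem_eigenspace_toLin_iff, Matrix.toLin'_apply]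
    have h1 : Aᵀ *ᵥ (J *ᵥ (A *ᵥ x)) = J *ᵥ x := by
      rw [Matrix.mulVec_mulVec, Matrix.mulVec_mulVec, hA]
    rw [hx, Matrix.mulVec_smul, Matrix.mulVec_smul] at h1
    calc Aᵀ *ᵥ (J *ᵥ x) = l⁻¹ • (l • (Aᵀ *ᵥ (J *ᵥ x))) := by
          rw [smul_smul, inv_mul_cancel₀ hl, one_smul]
      _ = l⁻¹ • (J *ᵥ x) := by rw [h1]
  have hinj : Function.Injective (Matrix.toLin' J) := by
    rw [← LinearMap.ker_eq_bot, LinearMap.ker_eq_bot']
    intro v hv
    rw [Matrix.toLin'_apply] at hv
    exact Matrix.eq_zero_of_mulVec_eq_zero hJ.ne_zero hv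
  let g : ↥(eigenspace (Matrix.toLin' A) l) →ₗ[K] ↥(eigenspace (Matrix.toLin' Aᵀ) l⁻¹) :=
    (Matrix.toLin' J).restrict hmaps
  have hg : Function.Injective g := by
    intro x y hxy
    apply Subtype.ext
    apply hinj
    have := congrArg Subtype.val hxy
    exact this
  exact LinearMap.finrank_le_finrank_of_injective hg

end Cfsg.Agent.Lib.Helper5.SpAdj
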