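import Mathlib
import Cfsg.Agent.Lib.Helper5.SpAdj.EigGen

set_option autoImplicit false

/-! The family of eigenvalues `l^(± q^i)` of a symplectic matrix over `F_q`. -/

namespace Cfsg.Agent.Lib.Helper5.SpAdj

open Module Module.End Matrix

theorem pow_eq_pow_iff_field {Z : Type*} [Field Z] (x : Z) (hx : x ≠ 0) (i j : ℕ) :
    x ^ i = x ^ j ↔ i ≡ j [MOD orderOf x] := by
  have hord : orderOf (Units.mk0 x hx) = orderOf x := by
    rw [← orderOf_units, Units.val_mk0]
  rw [← hord, ← pow_eq_pow_iff_modEq]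
  constructor
  · intro h
    apply Units.ext
    rw [Units.val_pow_eq_pow_val, Units.val_pow_eq_pow_val, Units.val_mk0]
    exact h
  · intro h
    have h1 := congrArg Units.val h
    rw [Units.val_pow_eq_pow_val, Units.val_pow_eq_pow_val, Units.val_mk0] at h1
    exact h1

variable {K : Type*} [Field K]

theorem ne_zero_of_pow_eq_one (l : K) (r : ℕ) (hr : r ≠ 0) (hl : l ^ r = 1) : l ≠ 0 := by
  rintro rfl
  rw [zero_pow hr] at hl
  exact zero_ne_one hl

theorem pow_eq_pow_iff_of_order (l : K) (r : ℕ) (hr : r.Prime) (hl : l ^ r = 1) (hl1 : l ≠ 1)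
    (a b : ℕ) : l ^ a = l ^ b ↔ a ≡ b [MOD r] := by
  have : Fact r.Prime := ⟨hr⟩
  have hord : orderOf l = r := orderOf_eq_prime hl hl1
  rw [pow_eq_pow_iff_field l (ne_zero_of_pow_eq_one l r hr.ne_zero hl), hord]

/-- in a field with `2 ≠ 0`, an element of odd order has no two powers that are negatives -/
theorem pow_ne_neg_pow {Z : Type*} [Field Z] (h2 : (2 : Z) ≠ 0) (x : Z) (hx : x ≠ 0)
    (hodd : Odd (orderOf x)) (i j : ℕ) : x ^ i ≠ -x ^ j := by
  intro h
  have h1 : x ^ (2 * i) = x ^ (2 * j) := by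
    rw [mul_comm 2 i, mul_comm 2 j, pow_mul, pow_mul, h, neg_sq]
  rw [pow_eq_pow_iff_field x hx] at h1
  have hcop : Nat.Coprime 2 (orderOf x) := by
    rw [Nat.coprime_comm]
    exact Nat.Coprime.symm (Nat.coprime_two_left.mpr hodd)
  have h3 : i ≡ j [MOD orderOf x] := Nat.ModEq.cancel_left_of_coprime (by
    rw [Nat.Coprime] at hcop; rw [Nat.gcd_comm]; exact hcop) h1
  rw [← pow_eq_pow_iff_field x hx] at h3
  rw [h3] at h
  have h4 : (2 : Z) * x ^ j = 0 := by linear_combination h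
  rcases mul_eq_zero.mp h4 with h5 | h5
  · exact h2 h5
  · exact pow_ne_zero j hx h5

variable {ι : Type*} [Fintype ι] [DecidableEq ι]

theorem orbit_family (φ : K →+* K) (hφs : Function.Surjective φ) (q : ℕ)
    (hφ : ∀ x, φ x = x ^ q) (B J : Matrix ι ι K) (hBφ : B.map φ = B) (hJ : IsUnit J.det)
    (hBJ : Bᵀ * J * B = J) (r : ℕ) (hr : r.Prime) (hr2 : r ≠ 2) (hrq : ¬ r ∣ q) (k ηk : ℕ)
    (hk : k = orderOf ((q : ℕ) : ZMod r))
    (hηk : (Odd k ∧ ηk = k) ∨ (Even k ∧ 2 * ηk = k))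
    (l : K) (hl : l ^ r = 1) (hl1 : l ≠ 1) :
    ∃ S : Finset K, 2 * ηk ≤ S.card ∧ (1 : K) ∉ S ∧
      ∀ x ∈ S, finrank K (eigenspace (Matrix.toLin' B) l) ≤
        finrank K (eigenspace (Matrix.toLin' B) x) := by
  classical
  have hfr : Fact r.Prime := ⟨hr⟩
  have hl0 : l ≠ 0 := ne_zero_of_pow_eq_one l r hr.ne_zero hl
  have hqZ : ((q : ℕ) : ZMod r) ≠ 0 := by
    intro h
    exact hrq ((ZMod.natCast_eq_zero_iff q r).mp h)
  have h2Z : (2 : ZMod r) ≠ 0 := by
    intro h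
    have h1 : ((2 : ℕ) : ZMod r) = 0 := by exact_mod_cast h
    have h3 := (ZMod.natCast_eq_zero_iff 2 r).mp h1
    exact hr2 ((Nat.prime_dvd_prime_iff_eq hr Nat.prime_two).mp h3)
  -- dimensions
  have hdim1 : ∀ i : ℕ, finrank K (eigenspace (Matrix.toLin' B) l) ≤
      finrank K (eigenspace (Matrix.toLin' B) (l ^ (q ^ i))) := by
    intro i
    induction i with
    | zero => rw [pow_zero, pow_one]
    | succ i ih =>
      have h1 : l ^ (q ^ (i + 1)) = φ (l ^ (q ^ i)) := by rw [hφ, ← pow_mul, ← pow_succ]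
      rw [h1]
      exact ih.trans (finrank_eigenspace_le_map φ hφs B hBφ _)
  have hdim2 : ∀ i : ℕ, finrank K (eigenspace (Matrix.toLin' B) l) ≤
      finrank K (eigenspace (Matrix.toLin' B) (l ^ (q ^ i))⁻¹) := by
    intro i
    exact (hdim1 i).trans (finrank_eigenspace_le_inv B J hJ hBJ _ (pow_ne_zero _ hl0))
  -- the powers are different from `1`
  have hne1 : ∀ i : ℕ, l ^ (q ^ i) ≠ 1 := by
    intro i h
    have h1 : l ^ (q ^ i) = l ^ 0 := by rw [h, pow_zero]
    rw [pow_eq_pow_iff_of_order l r hr hl hl1] at h1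
    have h2 : r ∣ q ^ i := (Nat.modEq_zero_iff_dvd).mp h1
    exact hrq (hr.dvd_of_dvd_pow h2)
  -- injectivity
  have hinj : Set.InjOn (fun i : ℕ => l ^ (q ^ i)) (Finset.range k) := by
    intro i hi j hj h
    rw [Finset.coe_range, Set.mem_Iio] at hi hj
    simp only at h
    rw [pow_eq_pow_iff_of_order l r hr hl hl1, ← ZMod.natCast_eq_natCast_iff, Nat.cast_pow,
      Nat.cast_pow, pow_eq_pow_iff_field _ hqZ, ← hk] at h
    exact Nat.ModEq.eq_of_lt_of_lt h hi hj
  have hinj2 : Set.InjOn (fun i : ℕ => (l ^ (q ^ i))⁻¹) (Finset.range k) := by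
    intro i hi j hj h
    simp only at h
    exact hinj hi hj (inv_injective h)
  obtain ⟨S1, hS1⟩ : ∃ S1 : Finset K, S1 = (Finset.range k).image (fun i : ℕ => l ^ (q ^ i)) :=
    ⟨_, rfl⟩
  obtain ⟨S2, hS2⟩ : ∃ S2 : Finset K,
      S2 = (Finset.range k).image (fun i : ℕ => (l ^ (q ^ i))⁻¹) := ⟨_, rfl⟩
  have hc1 : S1.card = k := by rw [hS1, Finset.card_image_of_injOn hinj, Finset.card_range]
  have hc2 : S2.card = k := by rw [hS2, Finset.card_image_of_injOn hinj2, Finset.card_range]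
  have h1S1 : (1 : K) ∉ S1 := by
    rw [hS1]
    intro h
    obtain ⟨i, _, hi⟩ := Finset.mem_image.mp h
    exact hne1 i hi
  have h1S2 : (1 : K) ∉ S2 := by
    rw [hS2]
    intro h
    obtain ⟨i, _, hi⟩ := Finset.mem_image.mp h
    exact hne1 i (inv_eq_one.mp hi)
  have hd1 : ∀ x ∈ S1, finrank K (eigenspace (Matrix.toLin' B) l) ≤
      finrank K (eigenspace (Matrix.toLin' B) x) := by
    intro x hx
    rw [hS1] at hx
    obtain ⟨i, _, rfl⟩ := Finset.mem_image.mp hx
    exact hdim1 i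
  have hd2 : ∀ x ∈ S2, finrank K (eigenspace (Matrix.toLin' B) l) ≤
      finrank K (eigenspace (Matrix.toLin' B) x) := by
    intro x hx
    rw [hS2] at hx
    obtain ⟨i, _, rfl⟩ := Finset.mem_image.mp hx
    exact hdim2 i
  rcases hηk with ⟨hodd, hη⟩ | ⟨_, hη⟩
  · -- `k` odd: both families
    have hdisj : Disjoint S1 S2 := by
      rw [Finset.disjoint_left]
      intro x hx1 hx2
      rw [hS1] at hx1
      rw [hS2] at hx2
      obtain ⟨i, _, rfl⟩ := Finset.mem_image.mp hx1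
      obtain ⟨j, _, hj⟩ := Finset.mem_image.mp hx2
      have h1 : l ^ (q ^ j + q ^ i) = l ^ 0 := by
        rw [pow_add, pow_zero, ← hj, mul_inv_cancel₀ (pow_ne_zero _ hl0)]
      rw [pow_eq_pow_iff_of_order l r hr hl hl1, ← ZMod.natCast_eq_natCast_iff] at h1
      push_cast at h1
      have h3 : ((q : ℕ) : ZMod r) ^ j = -((q : ℕ) : ZMod r) ^ i := by
        linear_combination h1
      exact pow_ne_neg_pow h2Z _ hqZ (by rw [← hk]; exact hodd) j i h3
    refine ⟨S1 ∪ S2, ?_, ?_, ?_⟩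
    · rw [Finset.card_union_of_disjoint hdisj, hc1, hc2, hη]; omega
    · intro h
      rcases Finset.mem_union.mp h with h | h
      · exact h1S1 h
      · exact h1S2 h
    · intro x hx
      rcases Finset.mem_union.mp hx with h | h
      · exact hd1 x h
      · exact hd2 x h
  · exact ⟨S1, by rw [hc1, hη], h1S1, hd1⟩

end Cfsg.Agent.Lib.Helper5.SpAdj
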