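import Mathlib
import Cfsg.Agent.Lib.Helper5.SpAdj.Orbit
import Cfsg.Agent.Lib.Helper5.CommP.Eig

set_option autoImplicit false

/-! Signed `q`-powers of eigenvalues of a symplectic matrix over `F_q`, and counting. -/

namespace Cfsg.Agent.Lib.Helper5.SpAdj

open Module Module.End Matrix Cfsg.Agent.Lib.Helper5.CommP

variable {K : Type*} [Field K]

/-- the signed `q`-power `x^(± q^i)` -/
noncomputable def spow (q : ℕ) (x : K) (t : ℕ × Bool) : K :=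
  if t.2 then (x ^ (q ^ t.1))⁻¹ else x ^ (q ^ t.1)

theorem spow_false (q : ℕ) (x : K) (i : ℕ) : spow q x (i, false) = x ^ (q ^ i) := by
  simp [spow]

theorem spow_true (q : ℕ) (x : K) (i : ℕ) : spow q x (i, true) = (x ^ (q ^ i))⁻¹ := by
  simp [spow]

theorem spow_pow (q : ℕ) (x : K) (t : ℕ × Bool) (m : ℕ) :
    (spow q x t) ^ m = spow q (x ^ m) t := by
  obtain ⟨i, ε⟩ := t
  cases ε
  · rw [spow_false, spow_false, ← pow_mul, ← pow_mul, mul_comm]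
  · rw [spow_true, spow_true, inv_pow, ← pow_mul, ← pow_mul, mul_comm]

section numberTheory

variable (r : ℕ) (hr : r.Prime) (q : ℕ) (hrq : ¬ r ∣ q) (x : K) (hx : x ^ r = 1) (hx1 : x ≠ 1)

include hr hrq hx hx1

theorem qpow_eq_iff (i j : ℕ) :
    x ^ (q ^ i) = x ^ (q ^ j) ↔ i ≡ j [MOD orderOf ((q : ℕ) : ZMod r)] := by
  have hfr : Fact r.Prime := ⟨hr⟩
  have hqZ : ((q : ℕ) : ZMod r) ≠ 0 := by
    intro h
    exact hrq ((ZMod.natCast_eq_zero_iff q r).mp h)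
  rw [pow_eq_pow_iff_of_order x r hr hx hx1, ← ZMod.natCast_eq_natCast_iff, Nat.cast_pow,
    Nat.cast_pow, pow_eq_pow_iff_field _ hqZ]

theorem qpow_ne_one (i : ℕ) : x ^ (q ^ i) ≠ 1 := by
  intro h
  have h1 : x ^ (q ^ i) = x ^ 0 := by rw [h, pow_zero]
  rw [pow_eq_pow_iff_of_order x r hr hx hx1] at h1
  have h2 : r ∣ q ^ i := (Nat.modEq_zero_iff_dvd).mp h1
  exact hrq (hr.dvd_of_dvd_pow h2)

theorem qpow_eq_inv_imp (hr2 : r ≠ 2) (i j : ℕ) (h : x ^ (q ^ i) = (x ^ (q ^ j))⁻¹) :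
    ((q : ℕ) : ZMod r) ^ i = -((q : ℕ) : ZMod r) ^ j := by
  have hx0 : x ≠ 0 := ne_zero_of_pow_eq_one x r hr.ne_zero hx
  have h1 : x ^ (q ^ i + q ^ j) = x ^ 0 := by
    rw [pow_add, pow_zero, h, inv_mul_cancel₀ (pow_ne_zero _ hx0)]
  rw [pow_eq_pow_iff_of_order x r hr hx hx1, ← ZMod.natCast_eq_natCast_iff] at h1
  push_cast at h1
  linear_combination h1

theorem qpow_ne_inv_of_odd (hr2 : r ≠ 2) (hodd : Odd (orderOf ((q : ℕ) : ZMod r))) (i j : ℕ) :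
    x ^ (q ^ i) ≠ (x ^ (q ^ j))⁻¹ := by
  intro h
  have hfr : Fact r.Prime := ⟨hr⟩
  have hqZ : ((q : ℕ) : ZMod r) ≠ 0 := by
    intro h
    exact hrq ((ZMod.natCast_eq_zero_iff q r).mp h)
  have h2Z : (2 : ZMod r) ≠ 0 := by
    intro h
    have h1 : ((2 : ℕ) : ZMod r) = 0 := by exact_mod_cast h
    have h3 := (ZMod.natCast_eq_zero_iff 2 r).mp h1
    exact hr2 ((Nat.prime_dvd_prime_iff_eq hr Nat.prime_two).mp h3)
  exact pow_ne_neg_pow h2Z _ hqZ hodd i j (qpow_eq_inv_imp r hr q hrq x hx hx1 hr2 i j h)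

theorem qpow_eq_inv_modEq (hr2 : r ≠ 2) (i j : ℕ) (h : x ^ (q ^ i) = (x ^ (q ^ j))⁻¹) :
    2 * i ≡ 2 * j [MOD orderOf ((q : ℕ) : ZMod r)] := by
  have hfr : Fact r.Prime := ⟨hr⟩
  have hqZ : ((q : ℕ) : ZMod r) ≠ 0 := by
    intro h
    exact hrq ((ZMod.natCast_eq_zero_iff q r).mp h)
  have h1 := qpow_eq_inv_imp r hr q hrq x hx hx1 hr2 i j h
  have h2 : ((q : ℕ) : ZMod r) ^ (2 * i) = ((q : ℕ) : ZMod r) ^ (2 * j) := by
    rw [mul_comm 2 i, mul_comm 2 j, pow_mul, pow_mul, h1, neg_sq]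
  exact (pow_eq_pow_iff_field _ hqZ _ _).mp h2

theorem qpow_ne_inv_self (hr2 : r ≠ 2) (i j : ℕ) (hij : x ^ (q ^ i) = x ^ (q ^ j)) :
    x ^ (q ^ i) ≠ (x ^ (q ^ j))⁻¹ := by
  intro h
  have hfr : Fact r.Prime := ⟨hr⟩
  have hqZ : ((q : ℕ) : ZMod r) ≠ 0 := by
    intro h
    exact hrq ((ZMod.natCast_eq_zero_iff q r).mp h)
  have h2Z : (2 : ZMod r) ≠ 0 := by
    intro h
    have h1 : ((2 : ℕ) : ZMod r) = 0 := by exact_mod_cast h
    have h3 := (ZMod.natCast_eq_zero_iff 2 r).mp h1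
    exact hr2 ((Nat.prime_dvd_prime_iff_eq hr Nat.prime_two).mp h3)
  have h1 := qpow_eq_inv_imp r hr q hrq x hx hx1 hr2 i j h
  have h2 : ((q : ℕ) : ZMod r) ^ i = ((q : ℕ) : ZMod r) ^ j := by
    rw [pow_eq_pow_iff_field _ hqZ]
    exact (qpow_eq_iff r hr q hrq x hx hx1 i j).mp hij
  rw [h2] at h1
  have h4 : (2 : ZMod r) * ((q : ℕ) : ZMod r) ^ j = 0 := by linear_combination h1
  rcases mul_eq_zero.mp h4 with h5 | h5
  · exact h2Z h5
  · exact pow_ne_zero j hqZ h5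

end numberTheory

section counting

variable {ι : Type*} [Fintype ι] [DecidableEq ι]

theorem finrank_le_spow (φ : K →+* K) (hφs : Function.Surjective φ) (q : ℕ)
    (hφ : ∀ x, φ x = x ^ q) (B J : Matrix ι ι K) (hBφ : B.map φ = B) (hJ : IsUnit J.det)
    (hBJ : Bᵀ * J * B = J) (x : K) (hx : x ≠ 0) (t : ℕ × Bool) :
    finrank K (eigenspace (Matrix.toLin' B) x) ≤
      finrank K (eigenspace (Matrix.toLin' B) (spow q x t)) := by
  have hdim1 : ∀ i : ℕ, finrank K (eigenspace (Matrix.toLin' B) x) ≤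
      finrank K (eigenspace (Matrix.toLin' B) (x ^ (q ^ i))) := by
    intro i
    induction i with
    | zero => rw [pow_zero, pow_one]
    | succ i ih =>
      have h1 : x ^ (q ^ (i + 1)) = φ (x ^ (q ^ i)) := by rw [hφ, ← pow_mul, ← pow_succ]
      rw [h1]
      exact ih.trans (finrank_eigenspace_le_map φ hφs B hBφ _)
  obtain ⟨i, ε⟩ := t
  cases ε
  · rw [spow_false]; exact hdim1 i
  · rw [spow_true]
    exact (hdim1 i).trans (finrank_eigenspace_le_inv B J hJ hBJ _ (pow_ne_zero _ hx))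

/-- two disjoint families of eigenvalues -/
theorem card_add_card_le (φ : K →+* K) (hφs : Function.Surjective φ) (q : ℕ)
    (hφ : ∀ x, φ x = x ^ q) (B J : Matrix ι ι K) (hBφ : B.map φ = B) (hJ : IsUnit J.det)
    (hBJ : Bᵀ * J * B = J) (x y : K) (hx : x ≠ 0) (hy : y ≠ 0)
    (hEx : 1 ≤ finrank K (eigenspace (Matrix.toLin' B) x))
    (hEy : 1 ≤ finrank K (eigenspace (Matrix.toLin' B) y))
    (I₁ I₂ : Finset (ℕ × Bool)) (hinj₁ : Set.InjOn (spow q x) I₁)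
    (hinj₂ : Set.InjOn (spow q y) I₂)
    (hdisj : ∀ t ∈ I₁, ∀ u ∈ I₂, spow q x t ≠ spow q y u) :
    I₁.card + I₂.card ≤ Fintype.card ι := by
  classical
  obtain ⟨S₁, hS₁⟩ : ∃ S₁ : Finset K, S₁ = I₁.image (spow q x) := ⟨_, rfl⟩
  obtain ⟨S₂, hS₂⟩ : ∃ S₂ : Finset K, S₂ = I₂.image (spow q y) := ⟨_, rfl⟩
  have hc₁ : S₁.card = I₁.card := by rw [hS₁, Finset.card_image_of_injOn hinj₁]
  have hc₂ : S₂.card = I₂.card := by rw [hS₂, Finset.card_image_of_injOn hinj₂]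
  have hd : Disjoint S₁ S₂ := by
    rw [Finset.disjoint_left]
    intro z hz1 hz2
    rw [hS₁] at hz1
    rw [hS₂] at hz2
    obtain ⟨t, ht, rfl⟩ := Finset.mem_image.mp hz1
    obtain ⟨u, hu, hu2⟩ := Finset.mem_image.mp hz2
    exact hdisj t ht u hu hu2.symm
  have h1 : ∀ z ∈ S₁ ∪ S₂, 1 ≤ finrank K (eigenspace (Matrix.toLin' B) z) := by
    intro z hz
    rcases Finset.mem_union.mp hz with h | h
    · rw [hS₁] at h
      obtain ⟨t, _, rfl⟩ := Finset.mem_image.mp h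
      exact hEx.trans (finrank_le_spow φ hφs q hφ B J hBφ hJ hBJ x hx t)
    · rw [hS₂] at h
      obtain ⟨t, _, rfl⟩ := Finset.mem_image.mp h
      exact hEy.trans (finrank_le_spow φ hφs q hφ B J hBφ hJ hBJ y hy t)
  have h2 := Finset.card_nsmul_le_sum (S₁ ∪ S₂)
    (fun z => finrank K (eigenspace (Matrix.toLin' B) z)) 1 h1
  have h3 := sum_finrank_eigenspace_le (Matrix.toLin' B) (S₁ ∪ S₂)
  rw [Module.finrank_fintype_fun_eq_card] at h3
  rw [smul_eq_mul, mul_one, Finset.card_union_of_disjoint hd, hc₁, hc₂] at h2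
  exact h2.trans h3

/-- a single family of eigenvalues -/
theorem card_le_of_injOn (φ : K →+* K) (hφs : Function.Surjective φ) (q : ℕ)
    (hφ : ∀ x, φ x = x ^ q) (B J : Matrix ι ι K) (hBφ : B.map φ = B) (hJ : IsUnit J.det)
    (hBJ : Bᵀ * J * B = J) (x : K) (hx : x ≠ 0)
    (hEx : 1 ≤ finrank K (eigenspace (Matrix.toLin' B) x))
    (I₁ : Finset (ℕ × Bool)) (hinj₁ : Set.InjOn (spow q x) I₁) :
    I₁.card ≤ Fintype.card ι := by
  have h := card_add_card_le φ hφs q hφ B J hBφ hJ hBJ x x hx hx hEx hEx I₁ ∅ hinj₁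
    (by intro a ha; simp at ha) (by intro t _ u hu; simp at hu)
  simpa using h

end counting

end Cfsg.Agent.Lib.Helper5.SpAdj
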