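import Mathlib
import Cfsg.Agent.Lib.Helper5.SpAdj.Orbit2

set_option autoImplicit false

/-! A symplectic matrix over `F_q` of order `r s` (distinct odd primes different from the
characteristic) forces `η(k) + η(l) ≤ n` or `l / k` an odd integer. -/

namespace Cfsg.Agent.Lib.Helper5.SpAdj

open Module Module.End Matrix Cfsg.Agent.Lib.Helper5.CommP

variable {K : Type*} [Field K]

theorem eq_of_modEq_both (k l i j : ℕ) (hk : 0 < k) (hl : 0 < l) (hkl : ¬ k ∣ l)
    (hi : i < 2 * l) (hj : j < 2 * l) (h1 : i ≡ j [MOD k]) (h2 : i ≡ j [MOD l]) : i = j := by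
  have key : ∀ i j : ℕ, i ≤ j → j < 2 * l → i ≡ j [MOD k] → i ≡ j [MOD l] → i = j := by
    intro i j hij hj h1 h2
    have d1 : k ∣ j - i := (Nat.modEq_iff_dvd' hij).mp h1
    have d2 : l ∣ j - i := (Nat.modEq_iff_dvd' hij).mp h2
    have d3 : Nat.lcm k l ∣ j - i := Nat.lcm_dvd d1 d2
    obtain ⟨m, hm⟩ := Nat.dvd_lcm_right k l
    have hlcm0 : Nat.lcm k l ≠ 0 := Nat.lcm_ne_zero hk.ne' hl.ne'
    have hm2 : 2 ≤ m := by
      rcases m with _ | _ | m
      · rw [mul_zero] at hm; exact absurd hm hlcm0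
      · exfalso
        apply hkl
        rw [zero_add, mul_one] at hm
        have := Nat.dvd_lcm_left k l
        rwa [hm] at this
      · omega
    by_contra hne
    have hpos : 0 < j - i := by omega
    have h3 := Nat.le_of_dvd hpos d3
    have h4 : 2 * l ≤ Nat.lcm k l := by rw [hm]; nlinarith
    omega
  rcases le_total i j with h | h
  · exact key i j h hj h1 h2
  · exact (key j i h hi h1.symm h2.symm).symm

theorem spow_ne_one (r : ℕ) (hr : r.Prime) (q : ℕ) (hrq : ¬ r ∣ q) (x : K) (hx : x ^ r = 1)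
    (hx1 : x ≠ 1) (t : ℕ × Bool) : spow q x t ≠ 1 := by
  obtain ⟨i, ε⟩ := t
  cases ε
  · rw [spow_false]; exact qpow_ne_one r hr q hrq x hx hx1 i
  · rw [spow_true]
    intro h
    exact qpow_ne_one r hr q hrq x hx hx1 i (inv_eq_one.mp h)

/-- the index set of the orbit of an eigenvalue of prime order -/
def orbIdx (k : ℕ) : Finset (ℕ × Bool) :=
  if Odd k then Finset.range k ×ˢ {false, true} else Finset.range k ×ˢ {false}

theorem card_orbIdx (k ηk : ℕ) (hηk : (Odd k ∧ ηk = k) ∨ (Even k ∧ 2 * ηk = k)) :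
    (orbIdx k).card = 2 * ηk := by
  unfold orbIdx
  rcases hηk with ⟨hodd, h⟩ | ⟨heven, h⟩
  · rw [if_pos hodd, Finset.card_product, Finset.card_range, h]
    simp [mul_comm]
  · rw [if_neg (Nat.not_odd_iff_even.mpr heven), Finset.card_product, Finset.card_range, h]
    simp

theorem injOn_orbIdx (r : ℕ) (hr : r.Prime) (hr2 : r ≠ 2) (q : ℕ) (hrq : ¬ r ∣ q) (x : K)
    (hx : x ^ r = 1) (hx1 : x ≠ 1) (k : ℕ) (hk : k = orderOf ((q : ℕ) : ZMod r)) :
    Set.InjOn (spow q x) (orbIdx k) := by
  intro t ht u hu h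
  obtain ⟨i, ε⟩ := t
  obtain ⟨j, δ⟩ := u
  unfold orbIdx at ht hu
  by_cases hodd : Odd k
  · rw [if_pos hodd] at ht hu
    simp only [Finset.coe_product, Finset.coe_range, Set.mem_prod, Set.mem_Iio] at ht hu
    have hi := ht.1
    have hj := hu.1
    cases ε <;> cases δ
    · rw [spow_false, spow_false, qpow_eq_iff r hr q hrq x hx hx1, ← hk] at h
      rw [Nat.ModEq.eq_of_lt_of_lt h hi hj]
    · rw [spow_false, spow_true] at h
      exact absurd h (qpow_ne_inv_of_odd r hr q hrq x hx hx1 hr2 (by rw [← hk]; exact hodd) i j)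
    · rw [spow_true, spow_false] at h
      exact absurd h.symm
        (qpow_ne_inv_of_odd r hr q hrq x hx hx1 hr2 (by rw [← hk]; exact hodd) j i)
    · rw [spow_true, spow_true] at h
      have h' := inv_injective h
      rw [qpow_eq_iff r hr q hrq x hx hx1, ← hk] at h'
      rw [Nat.ModEq.eq_of_lt_of_lt h' hi hj]
  · rw [if_neg hodd] at ht hu
    simp only [Finset.coe_product, Finset.coe_range, Set.mem_prod, Set.mem_Iio,
      Finset.coe_singleton, Set.mem_singleton_iff] at ht hu
    obtain ⟨hi, rfl⟩ := ht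
    obtain ⟨hj, rfl⟩ := hu
    rw [spow_false, spow_false, qpow_eq_iff r hr q hrq x hx hx1, ← hk] at h
    rw [Nat.ModEq.eq_of_lt_of_lt h hi hj]

/-- the large orbit of an eigenvalue of order `r s` -/
theorem exists_idx_rs (r s : ℕ) (hr : r.Prime) (hs : s.Prime) (hr2 : r ≠ 2) (hs2 : s ≠ 2)
    (q : ℕ) (hrq : ¬ r ∣ q) (hsq : ¬ s ∣ q) (c : K) (hc : c ^ (r * s) = 1) (hcr : c ^ r ≠ 1)
    (hcs : c ^ s ≠ 1) (k l ηl : ℕ) (hk : k = orderOf ((q : ℕ) : ZMod r))
    (hl : l = orderOf ((q : ℕ) : ZMod s))
    (hηl : (Odd l ∧ ηl = l) ∨ (Even l ∧ 2 * ηl = l))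
    (hnot : ¬ ∃ t : ℕ, Odd t ∧ l = k * t) (hkpos : 0 < k) (hlpos : 0 < l) :
    ∃ I : Finset (ℕ × Bool), I.card = 4 * ηl ∧ Set.InjOn (spow q c) I := by
  obtain ⟨a, had⟩ : ∃ a, a = c ^ s := ⟨_, rfl⟩
  obtain ⟨b, hbd⟩ : ∃ b, b = c ^ r := ⟨_, rfl⟩
  have ha : a ^ r = 1 := by rw [had, ← pow_mul, mul_comm s r, hc]
  have hb : b ^ s = 1 := by rw [hbd, ← pow_mul, hc]
  have ha1 : a ≠ 1 := by rw [had]; exact hcs
  have hb1 : b ≠ 1 := by rw [hbd]; exact hcr
  have hta : ∀ t u, spow q c t = spow q c u → spow q a t = spow q a u := by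
    intro t u h
    rw [had, ← spow_pow, ← spow_pow, h]
  have htb : ∀ t u, spow q c t = spow q c u → spow q b t = spow q b u := by
    intro t u h
    rw [hbd, ← spow_pow, ← spow_pow, h]
  -- consequences for exponents
  have hA_ff : ∀ i j, spow q c (i, false) = spow q c (j, false) → i ≡ j [MOD k] := by
    intro i j h
    have h1 := hta _ _ h
    rw [spow_false, spow_false, qpow_eq_iff r hr q hrq a ha ha1, ← hk] at h1
    exact h1
  have hB_ff : ∀ i j, spow q c (i, false) = spow q c (j, false) → i ≡ j [MOD l] := by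
    intro i j h
    have h1 := htb _ _ h
    rw [spow_false, spow_false, qpow_eq_iff s hs q hsq b hb hb1, ← hl] at h1
    exact h1
  have hff_of_tt : ∀ i j, spow q c (i, true) = spow q c (j, true) →
      spow q c (i, false) = spow q c (j, false) := by
    intro i j h
    rw [spow_true, spow_true] at h
    rw [spow_false, spow_false]
    exact inv_injective h
  by_cases hdvd : k ∣ l
  · -- `l = k t` with `t` even
    obtain ⟨t, ht⟩ := hdvd
    have hteven : Even t := by
      rcases Nat.even_or_odd t with h | h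
      · exact h
      · exact absurd ⟨t, h, ht⟩ hnot
    obtain ⟨t', ht'⟩ := hteven
    have hl2 : l = 2 * (k * t') := by rw [ht, ht']; ring
    have hηl' : 2 * ηl = l := by
      rcases hηl with ⟨hodd, _⟩ | ⟨_, h⟩
      · exfalso
        rw [hl2] at hodd
        exact (Nat.not_odd_iff_even.mpr (even_two_mul _)) hodd
      · exact h
    have hkey : ∀ i j, spow q c (i, false) = spow q c (j, true) → False := by
      intro i j h
      have h1 := htb _ _ h
      rw [spow_false, spow_true] at h1
      have h2 := qpow_eq_inv_modEq s hs q hsq b hb hb1 hs2 i j h1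
      rw [← hl, hl2] at h2
      have h3 : i ≡ j [MOD k * t'] := Nat.ModEq.mul_left_cancel' (by norm_num) h2
      have h4 : i ≡ j [MOD k] := h3.of_mul_right t'
      have h5 := hta _ _ h
      rw [spow_false, spow_true] at h5
      have h6 : a ^ (q ^ i) = a ^ (q ^ j) := by
        rw [qpow_eq_iff r hr q hrq a ha ha1, ← hk]; exact h4
      exact qpow_ne_inv_self r hr q hrq a ha ha1 hr2 i j h6 h5
    refine ⟨Finset.range l ×ˢ {false, true}, ?_, ?_⟩
    · rw [Finset.card_product, Finset.card_range]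
      simp
      omega
    · intro u hu v hv h
      obtain ⟨i, ε⟩ := u
      obtain ⟨j, δ⟩ := v
      simp only [Finset.coe_product, Finset.coe_range, Set.mem_prod, Set.mem_Iio] at hu hv
      have hi := hu.1
      have hj := hv.1
      cases ε <;> cases δ
      · rw [Nat.ModEq.eq_of_lt_of_lt (hB_ff i j h) hi hj]
      · exact (hkey i j h).elim
      · exact (hkey j i h.symm).elim
      · rw [Nat.ModEq.eq_of_lt_of_lt (hB_ff i j (hff_of_tt i j h)) hi hj]
  · -- `k ∤ l`
    have hinj_ff : ∀ i j, i < 2 * l → j < 2 * l →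
        spow q c (i, false) = spow q c (j, false) → i = j := by
      intro i j hi hj h
      exact eq_of_modEq_both k l i j hkpos hlpos hdvd hi hj (hA_ff i j h) (hB_ff i j h)
    rcases hηl with ⟨hodd, hη⟩ | ⟨heven, hη⟩
    · have hkey : ∀ i j, spow q c (i, false) = spow q c (j, true) → False := by
        intro i j h
        have h1 := htb _ _ h
        rw [spow_false, spow_true] at h1
        exact qpow_ne_inv_of_odd s hs q hsq b hb hb1 hs2 (by rw [← hl]; exact hodd) i j h1
      refine ⟨Finset.range (2 * l) ×ˢ {false, true}, ?_, ?_⟩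
      · rw [Finset.card_product, Finset.card_range, hη]
        simp
        ring
      · intro u hu v hv h
        obtain ⟨i, ε⟩ := u
        obtain ⟨j, δ⟩ := v
        simp only [Finset.coe_product, Finset.coe_range, Set.mem_prod, Set.mem_Iio] at hu hv
        have hi := hu.1
        have hj := hv.1
        cases ε <;> cases δ
        · rw [hinj_ff i j hi hj h]
        · exact (hkey i j h).elim
        · exact (hkey j i h.symm).elim
        · rw [hinj_ff i j hi hj (hff_of_tt i j h)]
    · refine ⟨Finset.range (2 * l) ×ˢ {false}, ?_, ?_⟩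
      · rw [Finset.card_product, Finset.card_range]
        simp
        omega
      · intro u hu v hv h
        obtain ⟨i, ε⟩ := u
        obtain ⟨j, δ⟩ := v
        simp only [Finset.coe_product, Finset.coe_range, Set.mem_prod, Set.mem_Iio,
          Finset.coe_singleton, Set.mem_singleton_iff] at hu hv
        obtain ⟨hi, rfl⟩ := hu
        obtain ⟨hj, rfl⟩ := hv
        rw [hinj_ff i j hi hj h]

end Cfsg.Agent.Lib.Helper5.SpAdj
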