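import Mathlib
import Cfsg.Agent.Lib.Helper5.SpAdj.NoRS

set_option autoImplicit false

/-! No symplectic matrix of order `r s` when `η(k) + η(l) > n` and `l / k` is not an odd
integer: the statement over the algebraic closure. -/

namespace Cfsg.Agent.Lib.Helper5.SpAdj

open Module Module.End Matrix Cfsg.Agent.Lib.Helper5.CommP

variable {K : Type*} [Field K]

theorem exists_eig_pow_ne [IsAlgClosed K] {V : Type*} [AddCommGroup V] [Module K V]
    [FiniteDimensional K V] (f : End K V) (u v : ℕ) (huK : ((u : ℕ) : K) ≠ 0)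
    (hf : f ^ (u * v) = 1) (hfv : f ^ v ≠ 1) :
    ∃ c : K, c ^ (u * v) = 1 ∧ c ^ v ≠ 1 ∧ 1 ≤ finrank K (eigenspace f c) := by
  obtain ⟨g, hg⟩ : ∃ g : End K V, g = f ^ v := ⟨_, rfl⟩
  have hgu : g ^ u = 1 := by rw [hg, ← pow_mul, mul_comm v u, hf]
  have hg1 : g ≠ 1 := by rw [hg]; exact hfv
  obtain ⟨z, hz1, _, hzd⟩ := exists_eigenvalue_ne_one g u huK hgu hg1
  have hW : eigenspace g z ≠ ⊥ := by
    intro h
    rw [h, finrank_bot] at hzd
    omega
  have hcomm : g * f = f * g := by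
    rw [hg, ← pow_succ, ← pow_succ']
  have hfW : ∀ x ∈ eigenspace g z, f x ∈ eigenspace g z := by
    intro x hx
    rw [mem_eigenspace_iff] at hx ⊢
    have h1 : g (f x) = (g * f) x := rfl
    rw [h1, hcomm, Module.End.mul_apply, hx, map_smul]
  obtain ⟨c, w, hwW, hw0, hw⟩ := exists_invariant_eigenvector f (eigenspace g z) hW hfW
  have hpow : ∀ i : ℕ, (f ^ i) w = c ^ i • w := by
    intro i
    induction i with
    | zero => simp
    | succ i ih =>
      rw [pow_succ', Module.End.mul_apply, ih, map_smul, hw, smul_smul, pow_succ]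
  have hcv : c ^ v = z := by
    have h1 := mem_eigenspace_iff.mp hwW
    rw [hg, hpow v] at h1
    have h2 : (c ^ v - z) • w = 0 := by rw [sub_smul, h1, sub_self]
    rcases smul_eq_zero.mp h2 with h | h
    · exact sub_eq_zero.mp h
    · exact absurd h hw0
  refine ⟨c, pow_eq_one_of_eigen f (u * v) hf c w hw0 hw, by rw [hcv]; exact hz1, ?_⟩
  have hmem : w ∈ eigenspace f c := mem_eigenspace_iff.mpr hw
  by_contra hlt
  have h0 : finrank K (eigenspace f c) = 0 := by omega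
  have hbot : eigenspace f c = ⊥ := Submodule.finrank_eq_zero.mp h0
  rw [hbot, Submodule.mem_bot] at hmem
  exact hw0 hmem

theorem spow_one (q : ℕ) (t : ℕ × Bool) : spow q (1 : K) t = 1 := by
  obtain ⟨i, ε⟩ := t
  cases ε
  · rw [spow_false, one_pow]
  · rw [spow_true, one_pow, inv_one]

variable {ι : Type*} [Fintype ι] [DecidableEq ι]

theorem no_order_rs_aux [IsAlgClosed K] (n : ℕ) (hcard : Fintype.card ι = 2 * n)
    (φ : K →+* K) (hφs : Function.Surjective φ) (q : ℕ)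
    (hφ : ∀ x, φ x = x ^ q) (B J : Matrix ι ι K) (hBφ : B.map φ = B) (hJ : IsUnit J.det)
    (hBJ : Bᵀ * J * B = J)
    (r s : ℕ) (hr : r.Prime) (hs : s.Prime) (hr2 : r ≠ 2) (hs2 : s ≠ 2) (hrs : r ≠ s)
    (hrK : ((r : ℕ) : K) ≠ 0) (hsK : ((s : ℕ) : K) ≠ 0) (hrq : ¬ r ∣ q) (hsq : ¬ s ∣ q)
    (hB : B ^ (r * s) = 1) (hBs : B ^ s ≠ 1) (hBr : B ^ r ≠ 1)
    (k l ηk ηl : ℕ) (hk : k = orderOf ((q : ℕ) : ZMod r)) (hl : l = orderOf ((q : ℕ) : ZMod s))
    (hkpos : 0 < k) (hlpos : 0 < l)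
    (hηk : (Odd k ∧ ηk = k) ∨ (Even k ∧ 2 * ηk = k))
    (hηl : (Odd l ∧ ηl = l) ∨ (Even l ∧ 2 * ηl = l)) (hkl : ηk ≤ ηl)
    (hn : n < ηk + ηl) (hnot : ¬ ∃ t : ℕ, Odd t ∧ l = k * t) : False := by
  have hfpow : ∀ m : ℕ, (Matrix.toLin' B) ^ m = Matrix.toLin' (B ^ m) := fun m =>
    (Matrix.toLin'_pow B m).symm
  have hf : (Matrix.toLin' B) ^ (r * s) = 1 := by
    rw [hfpow, hB, Matrix.toLin'_one]; rfl
  have hne : ∀ m : ℕ, B ^ m ≠ 1 → (Matrix.toLin' B) ^ m ≠ 1 := by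
    intro m hm h
    apply hm
    apply Matrix.toLin'.injective
    rw [← hfpow, h, Matrix.toLin'_one]; rfl
  obtain ⟨c₁, hc₁, hc₁s, hc₁d⟩ := exists_eig_pow_ne (Matrix.toLin' B) r s hrK hf (hne s hBs)
  obtain ⟨c₂, hc₂, hc₂r, hc₂d⟩ := exists_eig_pow_ne (Matrix.toLin' B) s r hsK
    (by rw [mul_comm s r]; exact hf) (hne r hBr)
  have hrs0 : r * s ≠ 0 := Nat.mul_ne_zero hr.ne_zero hs.ne_zero
  -- an eigenvalue of order `r s` is impossible
  have step2 : ∀ c : K, c ^ (r * s) = 1 → c ^ r ≠ 1 → c ^ s ≠ 1 →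
      1 ≤ finrank K (eigenspace (Matrix.toLin' B) c) → False := by
    intro c hc hcr hcs hcd
    obtain ⟨I, hIcard, hIinj⟩ := exists_idx_rs r s hr hs hr2 hs2 q hrq hsq c hc hcr hcs k l ηl hk hl
      hηl hnot hkpos hlpos
    have h1 := card_le_of_injOn φ hφs q hφ B J hBφ hJ hBJ c
      (ne_zero_of_pow_eq_one c (r * s) hrs0 hc) hcd I hIinj
    rw [hIcard, hcard] at h1
    omega
  by_cases h1r : c₁ ^ r = 1
  · by_cases h2s : c₂ ^ s = 1
    · -- eigenvalues of orders `r` and `s`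
      have ha1 : c₁ ≠ 1 := by
        rintro rfl
        exact hc₁s (one_pow s)
      have hb1 : c₂ ≠ 1 := by
        rintro rfl
        exact hc₂r (one_pow r)
      have hdisj : ∀ t ∈ orbIdx k, ∀ u ∈ orbIdx l, spow q c₁ t ≠ spow q c₂ u := by
        intro t _ u _ h
        have hzr : (spow q c₁ t) ^ r = 1 := by rw [spow_pow, h1r, spow_one]
        have hzs : (spow q c₁ t) ^ s = 1 := by rw [h, spow_pow, h2s, spow_one]
        have hz : (spow q c₁ t) ^ Nat.gcd r s = 1 := pow_gcd_eq_one.mpr ⟨hzr, hzs⟩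
        rw [(Nat.coprime_primes hr hs).mpr hrs, pow_one] at hz
        exact spow_ne_one r hr q hrq c₁ h1r ha1 t hz
      have h3 := card_add_card_le φ hφs q hφ B J hBφ hJ hBJ c₁ c₂
        (ne_zero_of_pow_eq_one c₁ r hr.ne_zero h1r) (ne_zero_of_pow_eq_one c₂ s hs.ne_zero h2s)
        hc₁d hc₂d (orbIdx k) (orbIdx l)
        (injOn_orbIdx r hr hr2 q hrq c₁ h1r ha1 k hk)
        (injOn_orbIdx s hs hs2 q hsq c₂ h2s hb1 l hl) hdisj
      rw [card_orbIdx k ηk hηk, card_orbIdx l ηl hηl, hcard] at h3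
      omega
    · exact step2 c₂ (by rw [mul_comm r s]; exact hc₂) hc₂r h2s hc₂d
  · exact step2 c₁ hc₁ h1r hc₁s hc₁d

end Cfsg.Agent.Lib.Helper5.SpAdj
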