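import Mathlib
import Cfsg.Agent.Lib.Helper5.SpAdj.NoRS2
import Cfsg.Agent.S0246

set_option autoImplicit false
open Cfsg

/-! `PSp_{2n}(q)` has no element of order `r s` when `η(k) + η(l) > n` and `l / k` is not an odd
integer. -/

namespace Cfsg.Agent.Lib.Helper5.SpAdj

open Matrix

theorem orderOf_pos_zmod (r : ℕ) (hr : r.Prime) (q : ℕ) (hrq : ¬ r ∣ q) :
    0 < orderOf ((q : ℕ) : ZMod r) := by
  have hfr : Fact r.Prime := ⟨hr⟩
  have hqZ : ((q : ℕ) : ZMod r) ≠ 0 := by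
    intro h
    exact hrq ((ZMod.natCast_eq_zero_iff q r).mp h)
  rw [orderOf_pos_iff, isOfFinOrder_iff_pow_eq_one]
  exact ⟨r - 1, by have := hr.two_le; omega, ZMod.pow_card_sub_one_eq_one hqZ⟩

/-- the matrix statement over the finite field -/
theorem no_matrix_order_rs {F : Type*} [Field F] [Fintype F] (p : ℕ) [Fact p.Prime]
    [CharP F p] (n : ℕ) (M : Matrix (Fin n ⊕ Fin n) (Fin n ⊕ Fin n) F)
    (hM : M ∈ Matrix.symplecticGroup (Fin n) F)
    (r s : ℕ) (hr : r.Prime) (hs : s.Prime) (hr2 : r ≠ 2) (hs2 : s ≠ 2) (hrp : r ≠ p)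
    (hsp : s ≠ p) (hrs : r ≠ s) (hMrs : M ^ (r * s) = 1) (hMs : M ^ s ≠ 1) (hMr : M ^ r ≠ 1)
    (k l ηk ηl : ℕ) (hk : k = orderOf ((Fintype.card F : ℕ) : ZMod r))
    (hl : l = orderOf ((Fintype.card F : ℕ) : ZMod s))
    (hηk : (Odd k ∧ ηk = k) ∨ (Even k ∧ 2 * ηk = k))
    (hηl : (Odd l ∧ ηl = l) ∨ (Even l ∧ 2 * ηl = l)) (hkl : ηk ≤ ηl)
    (hn : n < ηk + ηl) (hnot : ¬ ∃ t : ℕ, Odd t ∧ l = k * t) : False := by
  classical
  have hpp : p.Prime := Fact.out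
  obtain ⟨f, _, hq⟩ := FiniteField.card F p
  obtain ⟨q, hqd⟩ : ∃ q, q = Fintype.card F := ⟨_, rfl⟩
  rw [← hqd] at hq hk hl
  have hq0 : 0 < q := by rw [hq]; exact pow_pos hpp.pos _
  let K := AlgebraicClosure F
  have hcK : CharP K p := charP_of_injective_algebraMap (algebraMap F K).injective p
  let φ : K →+* K := iterateFrobenius K p f
  have hφ : ∀ x, φ x = x ^ q := fun x => by rw [hq]; exact iterateFrobenius_def p f x
  have hφs : Function.Surjective φ := by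
    intro y
    obtain ⟨z, hz⟩ := IsAlgClosed.exists_pow_nat_eq y hq0
    exact ⟨z, by rw [hφ, hz]⟩
  have hfix : ∀ a : F, φ (algebraMap F K a) = algebraMap F K a := by
    intro a
    rw [hφ, ← map_pow, hqd, FiniteField.pow_card]
  have hinj : Function.Injective
      (fun X : Matrix (Fin n ⊕ Fin n) (Fin n ⊕ Fin n) F => X.map (algebraMap F K)) :=
    Matrix.map_injective (algebraMap F K).injective
  have hmapmul : ∀ X Y : Matrix (Fin n ⊕ Fin n) (Fin n ⊕ Fin n) F,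
      (X * Y).map (algebraMap F K) = X.map (algebraMap F K) * Y.map (algebraMap F K) :=
    fun X Y => Matrix.map_mul
  have hmapone : (1 : Matrix (Fin n ⊕ Fin n) (Fin n ⊕ Fin n) F).map (algebraMap F K) = 1 :=
    Matrix.map_one _ (map_zero _) (map_one _)
  have hmappow : ∀ (X : Matrix (Fin n ⊕ Fin n) (Fin n ⊕ Fin n) F) (j : ℕ),
      (X ^ j).map (algebraMap F K) = (X.map (algebraMap F K)) ^ j := by
    intro X j
    exact map_pow ((algebraMap F K).mapMatrix) X j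
  have hMφ : (M.map (algebraMap F K)).map φ = M.map (algebraMap F K) := by
    ext i j
    simp only [Matrix.map_apply]
    exact hfix _
  have hMJ : Mᵀ * Matrix.J (Fin n) F * M = Matrix.J (Fin n) F :=
    SymplecticGroup.mem_iff'.mp hM
  have hJmap : (Matrix.J (Fin n) F).map (algebraMap F K) = Matrix.J (Fin n) K :=
    Matrix.map_J (Fin n) (algebraMap F K)
  have hMJ' : (M.map (algebraMap F K))ᵀ * Matrix.J (Fin n) K * M.map (algebraMap F K) =
      Matrix.J (Fin n) K := by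
    have h1 : (Mᵀ * Matrix.J (Fin n) F * M).map (algebraMap F K) =
        (Matrix.J (Fin n) F).map (algebraMap F K) := by rw [hMJ]
    rw [hmapmul, hmapmul, Matrix.transpose_map, hJmap] at h1
    exact h1
  have hJdet : IsUnit (Matrix.J (Fin n) K).det := Matrix.isUnit_det_J (Fin n) K
  have hK0 : ∀ t : ℕ, t.Prime → t ≠ p → ((t : ℕ) : K) ≠ 0 := by
    intro t ht htp h
    have h1 := (CharP.cast_eq_zero_iff K p t).mp h
    exact htp ((Nat.prime_dvd_prime_iff_eq hpp ht).mp h1).symm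
  have hndq : ∀ t : ℕ, t.Prime → t ≠ p → ¬ t ∣ q := by
    intro t ht htp h
    rw [hq] at h
    have h1 := ht.dvd_of_dvd_pow h
    exact htp ((Nat.prime_dvd_prime_iff_eq ht hpp).mp h1)
  have hne : ∀ j : ℕ, M ^ j ≠ 1 → (M.map (algebraMap F K)) ^ j ≠ 1 := by
    intro j hj h
    apply hj
    apply hinj
    show (M ^ j).map (algebraMap F K) =
      (1 : Matrix (Fin n ⊕ Fin n) (Fin n ⊕ Fin n) F).map (algebraMap F K)
    rw [hmappow, h, hmapone]
  have hcard : Fintype.card (Fin n ⊕ Fin n) = 2 * n := by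
    rw [Fintype.card_sum, Fintype.card_fin]; ring
  exact no_order_rs_aux (K := K) n hcard φ hφs q hφ (M.map (algebraMap F K))
    (Matrix.J (Fin n) K) hMφ hJdet hMJ' r s hr hs hr2 hs2 hrs (hK0 r hr hrp) (hK0 s hs hsp)
    (hndq r hr hrp) (hndq s hs hsp) (by rw [← hmappow, hMrs, hmapone]) (hne s hMs) (hne r hMr)
    k l ηk ηl hk hl (by rw [hk]; exact orderOf_pos_zmod r hr q (hndq r hr hrp))
    (by rw [hl]; exact orderOf_pos_zmod s hs q (hndq s hs hsp)) hηk hηl hkl hn hnot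

/-- no element of order `r s` in `PSp_{2n}(q)` -/
theorem no_element_order_rs {F : Type*} [Field F] [Fintype F] (p : ℕ) [Fact p.Prime]
    [CharP F p] (n : ℕ) (hn1 : 1 ≤ n)
    (r s : ℕ) (hr : r.Prime) (hs : s.Prime) (hr2 : r ≠ 2) (hs2 : s ≠ 2) (hrp : r ≠ p)
    (hsp : s ≠ p) (hrs : r ≠ s)
    (k l ηk ηl : ℕ) (hk : k = orderOf ((Fintype.card F : ℕ) : ZMod r))
    (hl : l = orderOf ((Fintype.card F : ℕ) : ZMod s))
    (hηk : (Odd k ∧ ηk = k) ∨ (Even k ∧ 2 * ηk = k))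
    (hηl : (Odd l ∧ ηl = l) ∨ (Even l ∧ 2 * ηl = l)) (hkl : ηk ≤ ηl)
    (hn : n < ηk + ηl) (hnot : ¬ ∃ t : ℕ, Odd t ∧ l = k * t)
    (g : Cfsg.PSp n F) (hg : orderOf g = r * s) : False := by
  obtain ⟨G0, rfl⟩ := QuotientGroup.mk_surjective g
  obtain ⟨M0, hM0⟩ : ∃ M0 : Matrix (Fin n ⊕ Fin n) (Fin n ⊕ Fin n) F, M0 = G0.1 := ⟨_, rfl⟩
  have hcoe : ∀ m : ℕ, (G0 ^ m).1 = M0 ^ m := by
    intro m; rw [hM0]; rfl
  have hmkpow : ∀ m : ℕ, ((G0 ^ m : ↥(symplecticGroup (Fin n) F)) : Cfsg.PSp n F) =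
      (G0 : Cfsg.PSp n F) ^ m := fun m => rfl
  have hz : M0 ^ (r * s) = 1 ∨ M0 ^ (r * s) = -1 := by
    have h1 : ((G0 ^ (r * s) : ↥(symplecticGroup (Fin n) F)) : Cfsg.PSp n F) = 1 := by
      rw [hmkpow, ← hg]; exact pow_orderOf_eq_one _
    rw [QuotientGroup.eq_one_iff, Cfsg.Agent.S0246.mem_center_iff n hn1, hcoe] at h1
    exact h1
  have hMrs : (M0 ^ 2) ^ (r * s) = 1 := by
    rw [← pow_mul, mul_comm, pow_mul]
    rcases hz with h | h
    · rw [h, one_pow]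
    · rw [h]; simp
  have hne : ∀ m : ℕ, ¬ r * s ∣ m → M0 ^ m ≠ 1 := by
    intro m hm h
    apply hm
    rw [← hg]
    apply orderOf_dvd_of_pow_eq_one
    rw [← hmkpow]
    have : G0 ^ m = 1 := Subtype.ext (by rw [hcoe, h]; rfl)
    rw [this]; rfl
  have hodd_r : Odd r := hr.odd_of_ne_two hr2
  have hodd_s : Odd s := hs.odd_of_ne_two hs2
  have hMs : (M0 ^ 2) ^ s ≠ 1 := by
    rw [← pow_mul]
    apply hne
    intro h
    rw [mul_comm r s, mul_comm 2 s] at h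
    have h1 : r ∣ 2 := Nat.dvd_of_mul_dvd_mul_left hs.pos h
    exact hr2 ((Nat.prime_dvd_prime_iff_eq hr Nat.prime_two).mp h1)
  have hMr : (M0 ^ 2) ^ r ≠ 1 := by
    rw [← pow_mul]
    apply hne
    intro h
    rw [mul_comm 2 r] at h
    have h1 : s ∣ 2 := Nat.dvd_of_mul_dvd_mul_left hr.pos h
    exact hs2 ((Nat.prime_dvd_prime_iff_eq hs Nat.prime_two).mp h1)
  have hM : M0 ^ 2 ∈ symplecticGroup (Fin n) F := by
    rw [← hcoe]; exact (G0 ^ 2).2
  exact no_matrix_order_rs p n (M0 ^ 2) hM r s hr hs hr2 hs2 hrp hsp hrs hMrs hMs hMr k l ηk ηl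
    hk hl hηk hηl hkl hn hnot

end Cfsg.Agent.Lib.Helper5.SpAdj
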