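import Mathlib
import Cfsg.Agent.Lib.Helper5.SpAdj.Exist2469
import Cfsg.Agent.Lib.Helper5.SpAdj.NoRS3

set_option autoImplicit false
open Cfsg

/-! `PSp_{2n}(q)`: adjacency of two odd primes different from the characteristic. -/

namespace Cfsg.Agent.Lib.Helper5.SpAdj

open Matrix Cfsg.Agent.Lib.Helper5

variable {F : Type*} [Field F] [Fintype F]

/-- an element of order `r s` in `Sp_{2 η(l)}(q)` when `l / k` is an odd integer -/
theorem exists_sp_order_rs (p : ℕ) [Fact p.Prime] [CharP F p]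
    (r s : ℕ) (hr : r.Prime) (hs : s.Prime) (hrs : r ≠ s)
    (k l ηl : ℕ) (hk : k = orderOf ((Fintype.card F : ℕ) : ZMod r))
    (hl : l = orderOf ((Fintype.card F : ℕ) : ZMod s))
    (hηl : (Odd l ∧ ηl = l) ∨ (Even l ∧ 2 * ηl = l)) (hkpos : 0 < k) (hlpos : 0 < l)
    (t : ℕ) (htodd : Odd t) (hlt : l = k * t) :
    ∃ x : symplecticGroup (Fin ηl) F, orderOf x = r * s := by
  have hq0 : 0 < Fintype.card F := Fintype.card_pos
  have hcop : Nat.Coprime r s := (Nat.coprime_primes hr hs).mpr hrs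
  rcases hηl with ⟨hodd, hη⟩ | ⟨heven, hη⟩
  · -- `l` odd: the Singer cycle of `GL_l(q)`
    subst hη
    have hr1 : r ∣ Fintype.card F ^ ηl - 1 := by
      rw [dvd_pow_sub_one_iff r hr _ hq0, ← hk, hlt]; exact Dvd.intro _ rfl
    have hs1 : s ∣ Fintype.card F ^ ηl - 1 := by
      rw [dvd_pow_sub_one_iff s hs _ hq0, ← hl]
    have hrs1 : r * s ∣ Fintype.card F ^ ηl - 1 := hcop.mul_dvd_of_dvd_of_dvd hr1 hs1
    have hne : NeZero ηl := ⟨hlpos.ne'⟩
    obtain ⟨A, hA⟩ := SpecSL.exists_gl_orderOf p ηl (r * s) hrs1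
    obtain ⟨S, hS⟩ := exists_sp_orderOf_of_gl ηl A
    exact ⟨S, by rw [hS, hA]⟩
  · -- `l` even: the torus of order `q^(l/2) + 1`
    have hkeven : Even k := by
      rcases Nat.even_or_odd k with h | h
      · exact h
      · exfalso
        have : Odd l := by rw [hlt]; exact h.mul htodd
        exact (Nat.not_odd_iff_even.mpr heven) this
    obtain ⟨k', hk'⟩ := hkeven
    have hk'2 : k = 2 * k' := by omega
    have hk'pos : 0 < k' := by omega
    have hηpos : 0 < ηl := by omega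
    have hηkt : ηl = k' * t := by
      have : 2 * ηl = 2 * (k' * t) := by rw [hη, hlt, hk'2]; ring
      omega
    have hs1 : s ∣ Fintype.card F ^ ηl + 1 :=
      dvd_pow_add_one_of_order s hs _ hq0 ηl hηpos (by rw [← hl, hη])
    have hr0 : r ∣ Fintype.card F ^ k' + 1 :=
      dvd_pow_add_one_of_order r hr _ hq0 k' hk'pos (by rw [← hk, hk'2])
    have hr1 : r ∣ Fintype.card F ^ ηl + 1 := by
      have h1 := htodd.nat_add_dvd_pow_add_pow (Fintype.card F ^ k') 1
      rw [one_pow, ← pow_mul, ← hηkt] at h1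
      exact hr0.trans h1
    have hrs1 : r * s ∣ Fintype.card F ^ ηl + 1 := hcop.mul_dvd_of_dvd_of_dvd hr1 hs1
    have hne : NeZero (2 * ηl) := ⟨by omega⟩
    have : Fintype (FiniteField.Extension F p (2 * ηl)) := Fintype.ofFinite _
    exact exists_sp_orderOf (FiniteField.Extension F p (2 * ηl)) ηl
      (FiniteField.finrank_extension F p (2 * ηl)) hηpos (r * s) hrs1

theorem psp_adjacent_odd (p : ℕ) [Fact p.Prime] [CharP F p] (n : ℕ) (hn : 2 ≤ n)
    (r s : ℕ) (hr : r.Prime) (hs : s.Prime) (hr2 : r ≠ 2) (hs2 : s ≠ 2) (hrp : r ≠ p)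
    (hsp : s ≠ p) (hrs : r ≠ s)
    (hsG : s ∣ Nat.card (Cfsg.PSp n F))
    (k l ηk ηl : ℕ) (hk : k = orderOf ((Fintype.card F : ℕ) : ZMod r))
    (hl : l = orderOf ((Fintype.card F : ℕ) : ZMod s))
    (hηk : (Odd k ∧ ηk = k) ∨ (Even k ∧ 2 * ηk = k))
    (hηl : (Odd l ∧ ηl = l) ∨ (Even l ∧ 2 * ηl = l)) (hkl : ηk ≤ ηl) :
    (r * s ∉ Set.range (orderOf : Cfsg.PSp n F → ℕ)) ↔
      (n < ηk + ηl ∧ ¬ ∃ t : ℕ, Odd t ∧ l = k * t) := by
  have hpp : p.Prime := Fact.out
  obtain ⟨f, _, hq⟩ := FiniteField.card F p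
  have hndq : ∀ t : ℕ, t.Prime → t ≠ p → ¬ t ∣ Fintype.card F := by
    intro t ht htp h
    rw [hq] at h
    have h1 := ht.dvd_of_dvd_pow h
    exact htp ((Nat.prime_dvd_prime_iff_eq ht hpp).mp h1)
  have hkpos : 0 < k := by rw [hk]; exact orderOf_pos_zmod r hr _ (hndq r hr hrp)
  have hlpos : 0 < l := by rw [hl]; exact orderOf_pos_zmod s hs _ (hndq s hs hsp)
  have hηk1 : 1 ≤ ηk := by
    rcases hηk with ⟨_, h⟩ | ⟨_, h⟩ <;> omega
  have hodd_r : Odd r := hr.odd_of_ne_two hr2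
  have hodd_s : Odd s := hs.odd_of_ne_two hs2
  have hcop : Nat.Coprime r s := (Nat.coprime_primes hr hs).mpr hrs
  have hfin : ∀ m : ℕ, Finite (symplecticGroup (Fin m) F) := fun m => inferInstance
  constructor
  · intro h
    by_contra hcon
    apply h
    have hcases : ηk + ηl ≤ n ∨ ∃ t : ℕ, Odd t ∧ l = k * t := by
      by_contra hc
      apply hcon
      constructor
      · by_contra h1
        exact hc (Or.inl (by omega))
      · intro h2
        exact hc (Or.inr h2)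
    rcases hcases with hle | ⟨t, htodd, hlt⟩
    · -- block-diagonal elements of orders `r` and `s`
      obtain ⟨b, rfl⟩ : ∃ b, n = ηk + b := ⟨n - ηk, by omega⟩
      have hfr : Fact r.Prime := ⟨hr⟩
      have hfs : Fact s.Prime := ⟨hs⟩
      have hrd := dvd_card_sp_of_le p r hr hrp k ηk hk hηk hkpos ηk le_rfl
      have hsd := dvd_card_sp_of_le p s hs hsp l ηl hl hηl hlpos b (by omega)
      obtain ⟨x, hx⟩ := exists_prime_orderOf_dvd_card' r hrd
      obtain ⟨y, hy⟩ := exists_prime_orderOf_dvd_card' s hsd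
      obtain ⟨g, hg⟩ := exists_order_mul ηk b (by omega) x y r s hx hy hcop (hodd_r.mul hodd_s)
      exact ⟨g, hg⟩
    · -- the cyclic torus
      have hsd : s ∣ Nat.card (symplecticGroup (Fin n) F) := by
        rw [Subgroup.card_eq_card_quotient_mul_card_subgroup
          (Subgroup.center (symplecticGroup (Fin n) F))]
        exact Dvd.dvd.mul_right hsG _
      have hle := eta_le_of_dvd p s hs hsp l ηl hl hηl n hsd
      obtain ⟨b, rfl⟩ : ∃ b, n = ηl + b := ⟨n - ηl, by omega⟩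
      obtain ⟨x, hx⟩ := exists_sp_order_rs p r s hr hs hrs k l ηl hk hl hηl hkpos hlpos t htodd hlt
      obtain ⟨g, hg⟩ := exists_order_mul ηl b (by omega) x (1 : symplecticGroup (Fin b) F)
        (r * s) 1 hx orderOf_one (Nat.coprime_one_right _)
        (by rw [mul_one]; exact hodd_r.mul hodd_s)
      rw [mul_one] at hg
      exact ⟨g, hg⟩
  · rintro ⟨hlt, hnot⟩ ⟨g, hg⟩
    exact no_element_order_rs p n (by omega) r s hr hs hr2 hs2 hrp hsp hrs k l ηk ηl hk hl hηk hηl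
      hkl hlt hnot g hg

end Cfsg.Agent.Lib.Helper5.SpAdj
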