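import Mathlib
import Cfsg.Agent.Lib.Helper5.SpAdj.EigGen
import Cfsg.Agent.Lib.Helper5.CommP.Eig

set_option autoImplicit false

/-! A matrix of order `r` whose eigenvalues different from `1` come in large families of equal
multiplicity commutes with no non-zero nilpotent matrix. -/

namespace Cfsg.Agent.Lib.Helper5.SpAdj

open Module Module.End Matrix Cfsg.Agent.Lib.Helper5.CommP

variable {K : Type*} [Field K] {ι : Type*} [Fintype ι] [DecidableEq ι]

theorem no_commuting_nilpotent_gen [IsAlgClosed K] (hm : 3 ≤ Fintype.card ι)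
    (B : Matrix ι ι K) (r : ℕ) (hr : (r : K) ≠ 0) (hBr : B ^ r = 1) (hB1 : B ≠ 1)
    (N : Matrix ι ι K) (hNB : N * B = B * N) (hN0 : N ≠ 0) (hNnil : IsNilpotent N)
    (H : ∀ l : K, l ^ r = 1 → l ≠ 1 → ∃ S : Finset K, Fintype.card ι - 1 ≤ S.card ∧
      (1 : K) ∉ S ∧ ∀ x ∈ S, finrank K (eigenspace (Matrix.toLin' B) l) ≤
        finrank K (eigenspace (Matrix.toLin' B) x)) : False := by
  classical
  have hfr : (Matrix.toLin' B) ^ r = 1 := by
    rw [← Matrix.toLin'_pow, hBr, Matrix.toLin'_one]; rfl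
  have hf1 : Matrix.toLin' B ≠ 1 := by
    intro h
    apply hB1
    apply Matrix.toLin'.injective
    rw [h, Matrix.toLin'_one]; rfl
  have hc : Matrix.toLin' N * Matrix.toLin' B = Matrix.toLin' B * Matrix.toLin' N := by
    rw [Module.End.mul_eq_comp, Module.End.mul_eq_comp, ← Matrix.toLin'_mul, ← Matrix.toLin'_mul,
      hNB]
  have hn0 : Matrix.toLin' N ≠ 0 := by
    intro h
    apply hN0
    apply Matrix.toLin'.injective
    rw [h, map_zero]
  have hnil : IsNilpotent (Matrix.toLin' N) := by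
    obtain ⟨k, hk⟩ := hNnil
    exact ⟨k, by rw [← Matrix.toLin'_pow, hk, map_zero]⟩
  have hdim : finrank K (ι → K) = Fintype.card ι := Module.finrank_fintype_fun_eq_card K
  obtain ⟨z0, hz0r, hz0⟩ := exists_eigenspace_two (Matrix.toLin' B) (Matrix.toLin' N) r hr hfr hc
    hn0 hnil
  have horbit : ∀ l : K, l ^ r = 1 → l ≠ 1 → ∀ d : ℕ,
      d ≤ finrank K (eigenspace (Matrix.toLin' B) l) →
      ∃ S : Finset K, (1 : K) ∉ S ∧ (Fintype.card ι - 1) * d ≤
        ∑ x ∈ S, finrank K (eigenspace (Matrix.toLin' B) x) := by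
    intro l hl hl1 d hd
    obtain ⟨S, hScard, hS1, hSd⟩ := H l hl hl1
    refine ⟨S, hS1, ?_⟩
    have h1 := Finset.card_nsmul_le_sum S
      (fun x => finrank K (eigenspace (Matrix.toLin' B) x)) d (fun x hx => hd.trans (hSd x hx))
    rw [smul_eq_mul] at h1
    exact (Nat.mul_le_mul_right d hScard).trans h1
  by_cases hz1 : z0 = 1
  · subst hz1
    obtain ⟨z1, hz11, hz1r, hz1d⟩ := exists_eigenvalue_ne_one (Matrix.toLin' B) r hr hfr hf1
    obtain ⟨S, hS1, h1⟩ := horbit z1 hz1r hz11 1 hz1d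
    have h2 := sum_finrank_eigenspace_le (Matrix.toLin' B) (insert (1 : K) S)
    rw [Finset.sum_insert hS1, hdim] at h2
    have : (Fintype.card ι - 1) * 1 = Fintype.card ι - 1 := mul_one _
    omega
  · obtain ⟨S, _, h1⟩ := horbit z0 hz0r hz1 2 hz0
    have h2 := sum_finrank_eigenspace_le (Matrix.toLin' B) S
    rw [hdim] at h2
    have : (Fintype.card ι - 1) * 2 = 2 * Fintype.card ι - 2 := by omega
    omega

end Cfsg.Agent.Lib.Helper5.SpAdj
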