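import Mathlib
import Cfsg.Agent.Lib.Helper5.SpAdj.Core
import Cfsg.Agent.Lib.Helper5.SpAdj.Orbit

set_option autoImplicit false

/-! A symplectic matrix over `F_q` of odd prime order `r` with `η(e(r,q)) ≥ n` commutes with no
non-trivial matrix of order `p`. -/

namespace Cfsg.Agent.Lib.Helper5.SpAdj

open Matrix

theorem no_commuting_unipotent_sp {F : Type*} [Field F] [Fintype F] (p : ℕ) [Fact p.Prime]
    [CharP F p] (n : ℕ) (hn : 2 ≤ n)
    (A B : Matrix (Fin n ⊕ Fin n) (Fin n ⊕ Fin n) F)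
    (hB : B ∈ Matrix.symplecticGroup (Fin n) F)
    (hAB : A * B = B * A) (hA1 : A ≠ 1) (hAp : A ^ p = 1)
    (r : ℕ) (hr : r.Prime) (hr2 : r ≠ 2) (hrp : r ≠ p) (hBr : B ^ r = 1) (hB1 : B ≠ 1)
    (k ηk : ℕ) (hk : k = orderOf ((Fintype.card F : ℕ) : ZMod r))
    (hηk : (Odd k ∧ ηk = k) ∨ (Even k ∧ 2 * ηk = k)) (hlarge : n ≤ ηk) : False := by
  classical
  have hpp : p.Prime := Fact.out
  obtain ⟨f, _, hq⟩ := FiniteField.card F p
  obtain ⟨q, hqd⟩ : ∃ q, q = Fintype.card F := ⟨_, rfl⟩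
  rw [← hqd] at hq hk
  have hq0 : 0 < q := by rw [hq]; exact pow_pos hpp.pos _
  let K := AlgebraicClosure F
  have hcK : CharP K p := charP_of_injective_algebraMap (algebraMap F K).injective p
  let φ : K →+* K := iterateFrobenius K p f
  have hφ : ∀ x, φ x = x ^ q := fun x => by rw [hq]; exact iterateFrobenius_def p f x
  have hφs : Function.Surjective φ := by
    intro y
    obtain ⟨z, hz⟩ := IsAlgClosed.exists_pow_nat_eq y hq0
    exact ⟨z, by rw [hφ, hz]⟩
  have hfix : ∀ a : F, φ (algebraMap F K a) = algebraMap F K a := by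
    intro a
    rw [hφ, ← map_pow, hqd, FiniteField.pow_card]
  have hinj : Function.Injective
      (fun M : Matrix (Fin n ⊕ Fin n) (Fin n ⊕ Fin n) F => M.map (algebraMap F K)) :=
    Matrix.map_injective (algebraMap F K).injective
  have hmapmul : ∀ X Y : Matrix (Fin n ⊕ Fin n) (Fin n ⊕ Fin n) F,
      (X * Y).map (algebraMap F K) = X.map (algebraMap F K) * Y.map (algebraMap F K) :=
    fun X Y => Matrix.map_mul
  have hmapone : (1 : Matrix (Fin n ⊕ Fin n) (Fin n ⊕ Fin n) F).map (algebraMap F K) = 1 :=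
    Matrix.map_one _ (map_zero _) (map_one _)
  have hmappow : ∀ (X : Matrix (Fin n ⊕ Fin n) (Fin n ⊕ Fin n) F) (j : ℕ),
      (X ^ j).map (algebraMap F K) = (X.map (algebraMap F K)) ^ j := by
    intro X j
    exact map_pow ((algebraMap F K).mapMatrix) X j
  have hBφ : (B.map (algebraMap F K)).map φ = B.map (algebraMap F K) := by
    ext i j
    simp only [Matrix.map_apply]
    exact hfix _
  -- the symplectic condition
  have hBJ : Bᵀ * Matrix.J (Fin n) F * B = Matrix.J (Fin n) F :=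
    SymplecticGroup.mem_iff'.mp hB
  have hJmap : (Matrix.J (Fin n) F).map (algebraMap F K) = Matrix.J (Fin n) K :=
    Matrix.map_J (Fin n) (algebraMap F K)
  have hBJ' : (B.map (algebraMap F K))ᵀ * Matrix.J (Fin n) K * B.map (algebraMap F K) =
      Matrix.J (Fin n) K := by
    have h1 : (Bᵀ * Matrix.J (Fin n) F * B).map (algebraMap F K) =
        (Matrix.J (Fin n) F).map (algebraMap F K) := by rw [hBJ]
    rw [hmapmul, hmapmul, Matrix.transpose_map, hJmap] at h1
    exact h1
  have hJdet : IsUnit (Matrix.J (Fin n) K).det := Matrix.isUnit_det_J (Fin n) K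
  have hrK : ((r : ℕ) : K) ≠ 0 := by
    intro h
    have h1 := (CharP.cast_eq_zero_iff K p r).mp h
    exact hrp ((Nat.prime_dvd_prime_iff_eq hpp hr).mp h1).symm
  have hBr' : (B.map (algebraMap F K)) ^ r = 1 := by rw [← hmappow, hBr, hmapone]
  have hB1' : B.map (algebraMap F K) ≠ 1 := by
    intro h
    apply hB1
    apply hinj
    show B.map (algebraMap F K) =
      (1 : Matrix (Fin n ⊕ Fin n) (Fin n ⊕ Fin n) F).map (algebraMap F K)
    rw [h, hmapone]
  have hN0 : (A - 1).map (algebraMap F K) ≠ 0 := by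
    intro h
    apply hA1
    have h1 : A - 1 = 0 := by
      apply hinj
      show (A - 1).map (algebraMap F K) =
        (0 : Matrix (Fin n ⊕ Fin n) (Fin n ⊕ Fin n) F).map (algebraMap F K)
      rw [h, Matrix.map_zero _ (map_zero _)]
    exact sub_eq_zero.mp h1
  have hne : Nonempty (Fin n ⊕ Fin n) := ⟨Sum.inl ⟨0, by omega⟩⟩
  have hNnil : IsNilpotent ((A - 1).map (algebraMap F K)) := by
    refine ⟨p, ?_⟩
    rw [← hmappow, sub_pow_char_of_commute p (Commute.one_right A), hAp, one_pow, sub_self,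
      Matrix.map_zero _ (map_zero _)]
  have hNB : (A - 1).map (algebraMap F K) * B.map (algebraMap F K) =
      B.map (algebraMap F K) * (A - 1).map (algebraMap F K) := by
    rw [← hmapmul, ← hmapmul, sub_mul, mul_sub, hAB, one_mul, mul_one]
  have hrq : ¬ r ∣ q := by
    rw [hq]
    intro h
    have h1 := hr.dvd_of_dvd_pow h
    exact hrp ((Nat.prime_dvd_prime_iff_eq hr hpp).mp h1)
  have hcard : Fintype.card (Fin n ⊕ Fin n) = 2 * n := by
    rw [Fintype.card_sum, Fintype.card_fin]; ring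
  apply no_commuting_nilpotent_gen (K := K) (by rw [hcard]; omega) (B.map (algebraMap F K)) r hrK
    hBr' hB1' ((A - 1).map (algebraMap F K)) hNB hN0 hNnil
  intro l hl hl1
  obtain ⟨S, hS, h1S, hSd⟩ := orbit_family φ hφs q hφ (B.map (algebraMap F K))
    (Matrix.J (Fin n) K) hBφ hJdet hBJ' r hr hr2 hrq k ηk hk hηk l hl hl1
  exact ⟨S, by rw [hcard]; omega, h1S, hSd⟩

end Cfsg.Agent.Lib.Helper5.SpAdj
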