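import Mathlib
import Cfsg.Agent.Lib.Helper5.SpAdj.NoComm
import Cfsg.Agent.Lib.Helper5.SympBlock
import Cfsg.Agent.Lib.Helper5.SympCard
import Cfsg.Agent.S0246

set_option autoImplicit false
open Cfsg

/-! `PSp_{2n}(q)`: an odd prime `r ≠ p` is adjacent to `p` in the prime graph iff
`η(e(r,q)) ≤ n - 1`. -/

namespace Cfsg.Agent.Lib.Helper5.SpAdj

open Cfsg.Agent.Lib.Helper5

open Matrix

variable {F : Type*} [Field F]

theorem neg_one_pow_succ_char (p : ℕ) [Fact p.Prime] [CharP F p] {ι : Type*} [Fintype ι]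
    [DecidableEq ι] : (-1 : Matrix ι ι F) ^ (p + 1) = 1 := by
  have hpp : p.Prime := Fact.out
  rcases hpp.eq_two_or_odd' with rfl | hodd
  · have h2 : (-1 : F) = 1 := by
      have : (2 : F) = 0 := by exact_mod_cast CharP.cast_eq_zero F 2
      linear_combination -this
    have h3 : (-1 : Matrix ι ι F) = 1 := by
      ext i j
      by_cases hij : i = j
      · subst hij; simp [h2]
      · simp [Matrix.one_apply_ne hij]
    rw [h3, one_pow]
  · have : Even (p + 1) := by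
      obtain ⟨t, ht⟩ := hodd
      exact ⟨t + 1, by omega⟩
    exact this.neg_one_pow

/-- no element of order `r p` when `η(k) ≥ n` -/
theorem no_element_order_rp [Fintype F] (p : ℕ) [Fact p.Prime] [CharP F p] (n : ℕ) (hn : 2 ≤ n)
    (r : ℕ) (hr : r.Prime) (hr2 : r ≠ 2) (hrp : r ≠ p) (k ηk : ℕ)
    (hk : k = orderOf ((Fintype.card F : ℕ) : ZMod r))
    (hηk : (Odd k ∧ ηk = k) ∨ (Even k ∧ 2 * ηk = k)) (hlarge : n ≤ ηk)
    (g : Cfsg.PSp n F) (hg : orderOf g = r * p) : False := by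
  have hpp : p.Prime := Fact.out
  obtain ⟨G0, rfl⟩ := QuotientGroup.mk_surjective g
  obtain ⟨M0, hM0⟩ : ∃ M0 : Matrix (Fin n ⊕ Fin n) (Fin n ⊕ Fin n) F, M0 = G0.1 := ⟨_, rfl⟩
  have hcoe : ∀ m : ℕ, (G0 ^ m).1 = M0 ^ m := by
    intro m; rw [hM0]; rfl
  have hmkpow : ∀ m : ℕ, ((G0 ^ m : ↥(symplecticGroup (Fin n) F)) : Cfsg.PSp n F) =
      (G0 : Cfsg.PSp n F) ^ m := fun m => rfl
  have hz : M0 ^ (r * p) = 1 ∨ M0 ^ (r * p) = -1 := by
    have h1 : ((G0 ^ (r * p) : ↥(symplecticGroup (Fin n) F)) : Cfsg.PSp n F) = 1 := by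
      rw [hmkpow, ← hg]; exact pow_orderOf_eq_one _
    rw [QuotientGroup.eq_one_iff, Cfsg.Agent.S0246.mem_center_iff n (by omega), hcoe] at h1
    exact h1
  have hodd_r : Odd r := hr.odd_of_ne_two hr2
  have hAp : (M0 ^ (r * (p + 1))) ^ p = 1 := by
    rw [← pow_mul, mul_right_comm, pow_mul]
    rcases hz with h | h
    · rw [h, one_pow]
    · rw [h]; exact neg_one_pow_succ_char p
  have hBr : (M0 ^ (p * (r + 1))) ^ r = 1 := by
    rw [← pow_mul, mul_right_comm, pow_mul, mul_comm p r]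
    rcases hz with h | h
    · rw [h, one_pow]
    · rw [h]
      have : Even (r + 1) := by
        obtain ⟨t, ht⟩ := hodd_r
        exact ⟨t + 1, by omega⟩
      exact this.neg_one_pow
  have hne : ∀ m : ℕ, ¬ r * p ∣ m → M0 ^ m ≠ 1 := by
    intro m hm h
    apply hm
    rw [← hg]
    apply orderOf_dvd_of_pow_eq_one
    rw [← hmkpow]
    have : G0 ^ m = 1 := Subtype.ext (by rw [hcoe, h]; rfl)
    rw [this]; rfl
  have hA1 : M0 ^ (r * (p + 1)) ≠ 1 := by
    apply hne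
    intro h
    have h1 : p ∣ p + 1 := Nat.dvd_of_mul_dvd_mul_left hr.pos h
    have h2 : p ∣ 1 := (Nat.dvd_add_right (dvd_refl p)).mp h1
    exact hpp.one_lt.ne' (Nat.dvd_one.mp h2)
  have hB1 : M0 ^ (p * (r + 1)) ≠ 1 := by
    apply hne
    intro h
    rw [mul_comm r p] at h
    have h1 : r ∣ r + 1 := Nat.dvd_of_mul_dvd_mul_left hpp.pos h
    have h2 : r ∣ 1 := (Nat.dvd_add_right (dvd_refl r)).mp h1
    exact hr.one_lt.ne' (Nat.dvd_one.mp h2)
  have hB : M0 ^ (p * (r + 1)) ∈ symplecticGroup (Fin n) F := by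
    rw [← hcoe]; exact (G0 ^ (p * (r + 1))).2
  have hAB : M0 ^ (r * (p + 1)) * M0 ^ (p * (r + 1)) =
      M0 ^ (p * (r + 1)) * M0 ^ (r * (p + 1)) := by
    rw [← pow_add, ← pow_add, add_comm]
  exact no_commuting_unipotent_sp p n hn _ _ hB hAB hA1 hAp r hr hr2 hrp hBr hB1 k ηk hk hηk
    hlarge

theorem blockDiag_pow' (a b : ℕ) (M₁ : Matrix (Fin a ⊕ Fin a) (Fin a ⊕ Fin a) F)
    (M₂ : Matrix (Fin b ⊕ Fin b) (Fin b ⊕ Fin b) F) (m : ℕ) :
    SympBlock.blockDiag a b M₁ M₂ ^ m = SympBlock.blockDiag a b (M₁ ^ m) (M₂ ^ m) := by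
  induction m with
  | zero => rw [pow_zero, pow_zero, pow_zero, SympBlock.blockDiag_one]
  | succ m ih => rw [pow_succ, ih, pow_succ, pow_succ, SympBlock.blockDiag_mul]

/-- an element of order `r p` from block-diagonal matrices -/
theorem exists_order_rp [Fintype F] (p : ℕ) [Fact p.Prime] [CharP F p] (a b : ℕ) (ha : 1 ≤ a)
    (hb : 1 ≤ b) (r : ℕ) (hr : r.Prime) (hr2 : r ≠ 2) (hrp : r ≠ p)
    (hra : r ∣ Nat.card (symplecticGroup (Fin a) F)) :
    ∃ g : Cfsg.PSp (a + b) F, orderOf g = r * p := by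
  have hpp : p.Prime := Fact.out
  have hfr : Fact r.Prime := ⟨hr⟩
  have hfin : ∀ m : ℕ, Finite (symplecticGroup (Fin m) F) := fun m => inferInstance
  -- `p` divides the order of `Sp_{2b}`
  have hpb : p ∣ Nat.card (symplecticGroup (Fin b) F) := by
    rw [Cfsg.Agent.Lib.Helper5.SympCard.card_symplecticGroup]
    apply Dvd.dvd.mul_right
    obtain ⟨f, _, hq⟩ := FiniteField.card F p
    rw [hq, ← pow_mul]
    apply dvd_pow_self
    have : 0 < (f : ℕ) := f.pos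
    have : 0 < b ^ 2 := by positivity
    positivity
  obtain ⟨x, hx⟩ := exists_prime_orderOf_dvd_card' r hra
  obtain ⟨y, hy⟩ := exists_prime_orderOf_dvd_card' p hpb
  obtain ⟨G, hG⟩ : ∃ G : ↥(symplecticGroup (Fin (a + b)) F), G.1 = SympBlock.blockDiag a b x.1 y.1 :=
    ⟨⟨_, SympBlock.blockDiag_mem a b x.2 y.2⟩, rfl⟩
  have hcop : Nat.Coprime r p := (Nat.coprime_primes hr hpp).mpr hrp
  have hGpow : ∀ m : ℕ, G ^ m = 1 ↔ r * p ∣ m := by
    intro m
    have h1 : (G ^ m).1 = SympBlock.blockDiag a b ((x ^ m).1) ((y ^ m).1) := by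
      have : (G ^ m).1 = G.1 ^ m := rfl
      rw [this, hG, blockDiag_pow']; rfl
    constructor
    · intro h
      rw [h] at h1
      have h2 : SympBlock.blockDiag a b ((x ^ m).1) ((y ^ m).1) = SympBlock.blockDiag a b 1 1 := by
        rw [← h1, SympBlock.blockDiag_one]; rfl
      obtain ⟨h3, h4⟩ := SympBlock.blockDiag_injective a b _ _ _ _ h2
      have hx' : x ^ m = 1 := Subtype.ext h3
      have hy' : y ^ m = 1 := Subtype.ext h4
      have h5 := orderOf_dvd_of_pow_eq_one hx'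
      have h6 := orderOf_dvd_of_pow_eq_one hy'
      rw [hx] at h5
      rw [hy] at h6
      exact hcop.mul_dvd_of_dvd_of_dvd h5 h6
    · intro h
      have hx' : x ^ m = 1 := by
        apply orderOf_dvd_iff_pow_eq_one.mp; rw [hx]; exact (Dvd.intro _ rfl).trans h
      have hy' : y ^ m = 1 := by
        apply orderOf_dvd_iff_pow_eq_one.mp; rw [hy]; exact (Dvd.intro_left _ rfl).trans h
      apply Subtype.ext
      rw [h1, hx', hy']
      exact SympBlock.blockDiag_one a b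
  refine ⟨(G : Cfsg.PSp (a + b) F), ?_⟩
  have hmkpow : ∀ m : ℕ, ((G ^ m : ↥(symplecticGroup (Fin (a + b)) F)) : Cfsg.PSp (a + b) F) =
      (G : Cfsg.PSp (a + b) F) ^ m := fun m => rfl
  apply Nat.dvd_antisymm
  · apply orderOf_dvd_of_pow_eq_one
    rw [← hmkpow, (hGpow (r * p)).mpr (dvd_refl _)]; rfl
  · obtain ⟨m, hm⟩ : ∃ m, m = orderOf (G : Cfsg.PSp (a + b) F) := ⟨_, rfl⟩
    rw [← hm]
    have h1 : ((G ^ m : ↥(symplecticGroup (Fin (a + b)) F)) : Cfsg.PSp (a + b) F) = 1 := by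
      rw [hmkpow, hm]; exact pow_orderOf_eq_one _
    rw [QuotientGroup.eq_one_iff, Cfsg.Agent.S0246.mem_center_iff (a + b) (by omega)] at h1
    rcases h1 with h1 | h1
    · exact (hGpow m).mp (Subtype.ext h1)
    · rcases hpp.eq_two_or_odd' with rfl | hodd
      · have h2 : (-1 : F) = 1 := by
          have : (2 : F) = 0 := by exact_mod_cast CharP.cast_eq_zero F 2
          linear_combination -this
        have h3 : (-1 : Matrix (Fin (a + b) ⊕ Fin (a + b)) (Fin (a + b) ⊕ Fin (a + b)) F) = 1 := by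
          ext i j
          by_cases hij : i = j
          · subst hij; simp [h2]
          · simp [Matrix.one_apply_ne hij]
        rw [h3] at h1
        exact (hGpow m).mp (Subtype.ext h1)
      · have h2 : G ^ (2 * m) = 1 := by
          apply Subtype.ext
          have : (G ^ (2 * m)).1 = ((G ^ m).1) ^ 2 := by
            rw [mul_comm, pow_mul]; rfl
          rw [this, h1]
          simp
        have h3 := (hGpow (2 * m)).mp h2
        have hodd_r : Odd r := hr.odd_of_ne_two hr2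
        have hcop2 : Nat.Coprime (r * p) 2 := by
          rw [Nat.coprime_two_right]
          exact hodd_r.mul hodd
        exact hcop2.dvd_of_dvd_mul_left h3

end Cfsg.Agent.Lib.Helper5.SpAdj

namespace Cfsg.Agent.Lib.Helper5.SpAdj

open Matrix

theorem dvd_card_sp_of_order {F : Type*} [Field F] [Fintype F] (p : ℕ) [Fact p.Prime] [CharP F p]
    (r : ℕ) (hr : r.Prime) (hrp : r ≠ p) (k ηk : ℕ)
    (hk : k = orderOf ((Fintype.card F : ℕ) : ZMod r))
    (hηk : (Odd k ∧ ηk = k) ∨ (Even k ∧ 2 * ηk = k)) :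
    1 ≤ ηk ∧ r ∣ Nat.card (symplecticGroup (Fin ηk) F) := by
  have hpp : p.Prime := Fact.out
  have hfr : Fact r.Prime := ⟨hr⟩
  obtain ⟨f, _, hq⟩ := FiniteField.card F p
  obtain ⟨q, hqd⟩ : ∃ q, q = Fintype.card F := ⟨_, rfl⟩
  rw [← hqd] at hq hk
  have hq0 : 0 < q := by rw [hq]; exact pow_pos hpp.pos _
  have hrq : ¬ r ∣ q := by
    rw [hq]
    intro h
    have h1 := hr.dvd_of_dvd_pow h
    exact hrp ((Nat.prime_dvd_prime_iff_eq hr hpp).mp h1)
  have hqZ : ((q : ℕ) : ZMod r) ≠ 0 := by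
    intro h
    exact hrq ((ZMod.natCast_eq_zero_iff q r).mp h)
  have hkpos : 0 < k := by
    rw [hk, orderOf_pos_iff, isOfFinOrder_iff_pow_eq_one]
    exact ⟨r - 1, by have := hr.two_le; omega, ZMod.pow_card_sub_one_eq_one hqZ⟩
  have hη1 : 1 ≤ ηk := by
    rcases hηk with ⟨_, h⟩ | ⟨_, h⟩ <;> omega
  refine ⟨hη1, ?_⟩
  have hk1 : ((q : ℕ) : ZMod r) ^ k = 1 := by rw [hk]; exact pow_orderOf_eq_one _
  have hrk : r ∣ q ^ k - 1 := by
    have h1 : ((q ^ k : ℕ) : ZMod r) = ((1 : ℕ) : ZMod r) := by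
      rw [Nat.cast_pow, hk1, Nat.cast_one]
    rw [ZMod.natCast_eq_natCast_iff] at h1
    exact (Nat.modEq_iff_dvd' (Nat.one_le_pow _ _ hq0)).mp h1.symm
  obtain ⟨t, ht⟩ : ∃ t, 2 * ηk = k * t := by
    rcases hηk with ⟨_, h⟩ | ⟨_, h⟩
    · exact ⟨2, by rw [h]; ring⟩
    · exact ⟨1, by rw [h]; ring⟩
  have hdvd2 : q ^ k - 1 ∣ q ^ (2 * ηk) - 1 := by
    have h1 := Nat.sub_dvd_pow_sub_pow (q ^ k) 1 t
    rwa [one_pow, ← pow_mul, ← ht] at h1
  rw [Cfsg.Agent.Lib.Helper5.SympCard.card_symplecticGroup, ← hqd]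
  apply Dvd.dvd.mul_left
  have hmem : ηk - 1 ∈ Finset.range ηk := Finset.mem_range.mpr (by omega)
  apply Dvd.dvd.trans _ (Finset.dvd_prod_of_mem _ hmem)
  have h2 : 2 * (ηk - 1 + 1) = 2 * ηk := by omega
  rw [h2]
  exact hrk.trans hdvd2

theorem psp_adjacent_char {F : Type*} [Field F] [Fintype F] (p : ℕ) [Fact p.Prime] [CharP F p]
    (n : ℕ) (hn : 2 ≤ n) (r : ℕ) (hr : r.Prime) (hr2 : r ≠ 2) (hrp : r ≠ p)
    (k ηk : ℕ) (hk : k = orderOf ((Fintype.card F : ℕ) : ZMod r))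
    (hηk : (Odd k ∧ ηk = k) ∨ (Even k ∧ 2 * ηk = k)) :
    (r * p ∉ Set.range (orderOf : Cfsg.PSp n F → ℕ)) ↔ n - 1 < ηk := by
  constructor
  · intro h
    by_contra hcon
    apply h
    obtain ⟨hη1, hrdvd⟩ := dvd_card_sp_of_order p r hr hrp k ηk hk hηk
    obtain ⟨b, rfl⟩ : ∃ b, n = ηk + b := ⟨n - ηk, by omega⟩
    obtain ⟨g, hg⟩ := exists_order_rp p ηk b hη1 (by omega) r hr hr2 hrp hrdvd
    exact ⟨g, hg⟩
  · intro h hcon
    obtain ⟨g, hg⟩ := hcon
    exact no_element_order_rp p n hn r hr hr2 hrp k ηk hk hηk (by omega) g hg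

end Cfsg.Agent.Lib.Helper5.SpAdj
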